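import Groth.Agent.Lib.AlgSt.Gerbe.Neut.FullFaith
import Groth.Agent.Lib.AlgSt.Gerbe.OfSection
import Groth.Agent.Lib.AlgSt.DiagRep

/-!
# The automorphism sheaf along a map from a space is the relative position of the map with itself
-/

set_option backward.isDefEq.respectTransparency false
set_option backward.isDefEq.respectTransparency.types false

universe u

open CategoryTheory CategoryTheory.Limits AlgebraicGeometry Opposite

namespace GrothLib.AlgSt.Neut

open _root_.AlgSt GrothLib.FibCat GrothLib.Stk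

variable {S : Scheme.{u}} {U : AlgSp.Sp S} {𝒳 : _root_.AlgSt.Cat S} (x : ofSp U ⥤ᵇ 𝒳)
  (hst : _root_.Stk.IsStack (AlgSp.J S) 𝒳)

/-- The point under an object of the category of the automorphism sheaf. -/
abbrev autBase (d : (ofSp (autG x hst).left).obj) : (ofSp U).obj := ⟨d.base, d.sec.1⟩

/-- The automorphism of an object of the category of the automorphism sheaf. -/
noncomputable def autIsoOf (d : (ofSp (autG x hst).left).obj) : x.obj (autBase x hst d) ≅ x.obj (autBase x hst d) :=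
  Functor.Fiber.fiberInclusion.mapIso (d.sec.2 : Gerb.AutO (x.obj (autBase x hst d)))

theorem p_map_autIsoOf (d : (ofSp (autG x hst).left).obj) : 𝒳.p.map (autIsoOf x hst d).hom = 𝟙 _ :=
  Band.map_val (d.sec.2 : Gerb.AutO (x.obj (autBase x hst d)))

theorem autIsoOf_natural {d d' : (ofSp (autG x hst).left).obj} (φ : d' ⟶ d) (k : autBase x hst d' ⟶ autBase x hst d)
    (hk : k.hom = φ.hom) : x.map k ≫ (autIsoOf x hst d).hom = (autIsoOf x hst d').hom ≫ x.map k := by
  have h : d'.sec.2 = (autE x hst).map k.op d.sec.2 := sigma_eq_map (E := autE x hst) φ.hom d.sec φ.map_sec k hk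
  have e : (autIsoOf x hst d').hom = Band.val (Band.pull hst.1 (x.map k) (d.sec.2 : Gerb.AutO (x.obj (autBase x hst d)))) :=
    congrArg Band.val h
  rw [e]
  exact (Band.pull_spec hst.1 (x.map k) (d.sec.2 : Gerb.AutO (x.obj (autBase x hst d)))).symm

/-- To the relative position. -/
noncomputable def autToFp : ofSp (autG x hst).left ⥤ᵇ _root_.FibCat.fp x x :=
  _root_.FibCat.fpLift (ofSpMap (autG x hst).hom) (ofSpMap (autG x hst).hom)
    (natIsoOfComponents (fun d => autIsoOf x hst d)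
      (fun d => by
        have h : 𝒳.p.IsHomLift (𝟙 (𝒳.p.obj (x.obj (autBase x hst d)))) (autIsoOf x hst d).hom :=
          (d.sec.2 : Gerb.AutO (x.obj (autBase x hst d))).hom.2
        exact isHomLift_id_of_eq 𝒳.p (R := 𝒳.p.obj (x.obj (autBase x hst d))) _
          (Or.inl (x.w_obj (autBase x hst d))) (h := h))
      (fun {d' d} φ => autIsoOf_natural x hst φ ((ofSpMap (autG x hst).hom).map φ) rfl))

theorem isEquivOver_autToFp (r : Retr x) : _root_.FibCat.IsEquivOver (autToFp x hst) := by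
  refine FFEssSurjOver.isEquivOver ⟨⟨fun {d d'} ψ => ?_⟩, ⟨fun {d d' φ φ'} h => ?_⟩, fun η => ?_⟩
  · let φ₁ : autBase x hst d ⟶ autBase x hst d' := ψ.hom.fst
    let φ₂ : autBase x hst d ⟶ autBase x hst d' := ψ.hom.snd
    have hw : x.map φ₁ ≫ (autIsoOf x hst d').hom = (autIsoOf x hst d).hom ≫ x.map φ₂ := Fp.w ψ
    have hb := congrArg 𝒳.p.map hw
    rw [𝒳.p.map_comp, 𝒳.p.map_comp, p_map_autIsoOf, p_map_autIsoOf, p_map_x, p_map_x, Category.comp_id,
      Category.id_comp, cancel_epi, cancel_mono] at hb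
    have hφ : φ₁ = φ₂ := Stk.EltObj.hom_ext hb
    rw [← hφ] at hw
    have hpull : Band.pull hst.1 (x.map φ₁) (d'.sec.2 : Gerb.AutO (x.obj (autBase x hst d'))) =
        (d.sec.2 : Gerb.AutO (x.obj (autBase x hst d))) := Band.pull_eq hst.1 hw.symm
    let k : (⟨d.base, d.sec.1⟩ : (ofSp U).obj) ⟶ ⟨d'.base, d'.sec.1⟩ := φ₁
    have hsec : (autG x hst).left.obj.map φ₁.hom.op d'.sec = d.sec := by
      refine sigma_ext (autE x hst) (T := d.base) φ₁.map_sec ?_
      refine Eq.trans ?_ (map_congr (autE x hst) (eqToHom (congrArg (Stk.EltObj.mk d.base) φ₁.map_sec) ≫ φ₁) ⟨φ₁.hom, rfl⟩ ?_ d'.sec.2)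
      · rw [← map_map]
        refine congrArg _ ?_
        exact hpull.symm
      · rw [Stk.EltObj.comp_hom, eltObj_eqToHom_hom]
        exact Category.id_comp _
    exact ⟨⟨φ₁.hom, hsec⟩, Fp.hom_ext (Stk.EltObj.hom_ext rfl) ((Stk.EltObj.hom_ext rfl : _ = φ₁).trans hφ)⟩
  · exact Stk.EltObj.hom_ext (congrArg (fun t => t.hom.fst.hom) h)
  · let o := η.obj.fst
    let o' := η.obj.snd
    let β : x.obj o ≅ x.obj o' := η.obj.iso
    have hβ : 𝒳.p.IsHomLift (𝟙 o.base) β.hom := Fp.iso_lift η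
    have he : 𝒳.p.obj (x.obj o) = 𝒳.p.obj (x.obj o') :=
      (IsHomLift.domain_eq 𝒳.p (𝟙 o.base) β.hom).trans (IsHomLift.codomain_eq 𝒳.p (𝟙 o.base) β.hom).symm
    have hm : 𝒳.p.map β.hom = eqToHom he := by
      rw [IsHomLift.fac' 𝒳.p (𝟙 o.base) β.hom]; simp
    have hoo : o = o' := eq_of_vertical r β.hom he hm
    let γ : x.obj o ≅ x.obj o := β ≪≫ x.toFunctor.mapIso (eqToIso hoo.symm)
    have hγp : 𝒳.p.map γ.hom = 𝟙 _ := by
      change 𝒳.p.map (β.hom ≫ x.map (eqToHom hoo.symm)) = 𝟙 _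
      rw [𝒳.p.map_comp, hm, p_map_x, eltObj_eqToHom_hom]
      simp
    have hγ : 𝒳.p.IsHomLift (𝟙 (𝒳.p.obj (x.obj o))) γ.hom := hγp ▸ IsHomLift.map 𝒳.p _
    let d : (ofSp (autG x hst).left).obj := ⟨o.base, ⟨o.sec, GerbeAut.autOfIso γ hγ⟩⟩
    let o₀ : (_root_.FibCat.fp x x).obj := (autToFp x hst).obj d
    refine ⟨d, Fp.isoMk (a := o₀) (b := η) (Iso.refl o) (eqToIso hoo) ?_, (Fp.isHomLift_iff _ _).2 ?_⟩
    · change x.map (𝟙 o) ≫ β.hom = γ.hom ≫ x.map (eqToHom hoo)
      rw [x.map_id, Category.id_comp]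
      change β.hom = (β.hom ≫ x.map (eqToHom hoo.symm)) ≫ x.map (eqToHom hoo)
      rw [Category.assoc, ← x.map_comp, eqToHom_trans, eqToHom_refl, x.map_id, Category.comp_id]
    · exact IsHomLift.of_fac' _ _ _ rfl rfl (by simp; rfl)

end GrothLib.AlgSt.Neut
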