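import Groth.Agent.Lib.AlgSt.Gerbe.Neut.Sigma
import Groth.Agent.Lib.Stk.Band
import Groth.Agent.Lib.AlgSt.Gerbe.OfSection

/-!
# Sheaves of morphisms and of automorphisms along a map from a space
-/

set_option backward.isDefEq.respectTransparency false
set_option backward.isDefEq.respectTransparency.types false

universe u

open CategoryTheory CategoryTheory.Limits AlgebraicGeometry Opposite

namespace GrothLib.AlgSt.Neut

open _root_.AlgSt GrothLib.FibCat GrothLib.Stk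

variable {S : Scheme.{u}} {U : AlgSp.Sp S} {𝒳 : _root_.AlgSt.Cat S} (x : ofSp U ⥤ᵇ 𝒳)

/-- Morphisms from the values of `x` to a fixed object. -/
abbrev homE (a : 𝒳.obj) : ((ofSp U).obj)ᵒᵖ ⥤ Type u := x.toFunctor.op ⋙ yoneda.obj a

theorem p_map_x {o o' : (ofSp U).obj} (m : o ⟶ o') :
    𝒳.p.map (x.map m) = eqToHom (x.w_obj o) ≫ m.hom ≫ eqToHom (x.w_obj o').symm :=
  p_map_map x m

variable (hst : _root_.Stk.IsStack (AlgSp.J S) 𝒳)
include hst

/-- A morphism into a value of `x` factors through the value at the restricted point. -/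
theorem exists_factor (o : (ofSp U).obj) {a : 𝒳.obj} (κ : a ⟶ x.obj o) :
    ∃ θ : a ⟶ x.obj (resObj o (𝒳.p.map κ ≫ eqToHom (x.w_obj o))), θ ≫ x.map (resHom o _) = κ ∧
      𝒳.p.map θ = eqToHom (x.w_obj (resObj o (𝒳.p.map κ ≫ eqToHom (x.w_obj o)))).symm ∧
      ∀ θ', θ' ≫ x.map (resHom o (𝒳.p.map κ ≫ eqToHom (x.w_obj o))) = κ →
        𝒳.p.map θ' = eqToHom (x.w_obj (resObj o (𝒳.p.map κ ≫ eqToHom (x.w_obj o)))).symm → θ' = θ := by
  obtain ⟨θ, ⟨h1, h2⟩, hu⟩ := IsFibGrpd.existsUnique_fac hst.1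
    (x.map (resHom o (𝒳.p.map κ ≫ eqToHom (x.w_obj o)))) κ
    (eqToHom (x.w_obj (resObj o (𝒳.p.map κ ≫ eqToHom (x.w_obj o)))).symm) (by rw [p_map_x]; simp)
  exact ⟨θ, h2, h1, fun θ' h h' => hu θ' ⟨h', h⟩⟩

theorem glues_homE (a : 𝒳.obj) : Glues (homE x a) := by
  intro o R hR e he
  let g : ∀ ⦃V : Over S⦄ (f : V ⟶ o.base), R.arrows f → (V ⟶ 𝒳.p.obj a) := fun V f hf =>
    eqToHom (x.w_obj (resObj o f)).symm ≫ 𝒳.p.map (e (resHom o f) hf : x.obj (resObj o f) ⟶ a)
  have hbase : ∀ {o' : (ofSp U).obj} (m : o' ⟶ o) (h : R.arrows m.hom),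
      𝒳.p.map (e m h : x.obj o' ⟶ a) = eqToHom (x.w_obj o') ≫ g m.hom h := by
    intro o' m h
    let l : o' ⟶ resObj o m.hom := ⟨𝟙 o'.base, (Functor.map_id_apply U.obj _ _).trans m.map_sec⟩
    have hm : l ≫ resHom o m.hom = m := Stk.EltObj.hom_ext (Category.id_comp _)
    have h' : R.arrows (l ≫ resHom o m.hom).hom := by rw [hm]; exact h
    have h1 : x.map l ≫ (e (resHom o m.hom) h : x.obj (resObj o m.hom) ⟶ a) = e (l ≫ resHom o m.hom) h' :=
      he l (resHom o m.hom) h h'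
    have h2 : (e m h : x.obj o' ⟶ a) = x.map l ≫ e (resHom o m.hom) h := by
      rw [h1]; congr 1
    rw [h2, 𝒳.p.map_comp, p_map_x]
    simp [g, l]
  obtain ⟨χ₀, hχ₀, -⟩ := GrothLib.SpQuot.existsUnique_glue hR
    (F := (AlgSp.yon S).obj (𝒳.p.obj a)) (fun V f hf => (AlgSp.yon S).map (g f hf)) (by
      intro W V h f hf
      rw [← Functor.map_comp]
      congr 1
      let l : resObj o (h ≫ f) ⟶ resObj o f := ⟨h, (map_map_sec _ _ _ rfl _)⟩
      have h' : R.arrows (l ≫ resHom o f).hom := R.downward_closed hf h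
      have h1 : x.map l ≫ (e (resHom o f) hf : x.obj (resObj o f) ⟶ a) = e (l ≫ resHom o f) h' :=
        he l (resHom o f) hf h'
      have h2 := hbase (l ≫ resHom o f) h'
      rw [← h1, 𝒳.p.map_comp, p_map_x, hbase] at h2
      simp only [Category.assoc, eqToHom_trans_assoc, eqToHom_refl, Category.id_comp] at h2
      exact (cancel_epi _).1 h2)
  obtain ⟨χ, rfl⟩ := (AlgSp.yon S).map_surjective χ₀
  have hχ : ∀ ⦃V : Over S⦄ (f : V ⟶ o.base) (hf : R.arrows f), f ≫ χ = g f hf := fun V f hf =>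
    (AlgSp.yon S).map_injective (((AlgSp.yon S).map_comp _ _).trans (hχ₀ f hf))
  let R' : Sieve (𝒳.p.obj (x.obj o)) := R.pullback (eqToHom (x.w_obj o))
  have hR' : R' ∈ AlgSp.J S (𝒳.p.obj (x.obj o)) := (AlgSp.J S).pullback_stable _ hR
  choose θ hθ₁ hθ₂ hθu using fun {a' : 𝒳.obj} (κ : a' ⟶ x.obj o) => exists_factor x hst o κ
  let L : Descent.Local 𝒳.p (x.obj o) a R' (eqToHom (x.w_obj o) ≫ χ) :=
    { n := fun κ hκ => θ κ ≫ e (resHom o (𝒳.p.map κ ≫ eqToHom (x.w_obj o))) hκ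
      map_n := fun κ hκ => by
        rw [𝒳.p.map_comp, hθ₂, hbase]
        simp only [eqToHom_trans_assoc, eqToHom_refl, Category.id_comp]
        rw [← hχ, Category.assoc]
      comp := fun {a'' a'} l κ hκ h' => by
        let r : resObj o (𝒳.p.map (l ≫ κ) ≫ eqToHom (x.w_obj o)) ⟶ resObj o (𝒳.p.map κ ≫ eqToHom (x.w_obj o)) :=
          ⟨𝒳.p.map l, map_map_sec _ _ _ (by rw [𝒳.p.map_comp, Category.assoc]) _⟩
        have hr : r ≫ resHom o _ = resHom o _ := Stk.EltObj.hom_ext (by simp [r])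
        have h1 : l ≫ θ κ = θ (l ≫ κ) ≫ x.map r := by
          refine IsFibGrpd.hom_ext' hst.1 (x.map (resHom o (𝒳.p.map κ ≫ eqToHom (x.w_obj o)))) ?_ ?_
          · rw [𝒳.p.map_comp, 𝒳.p.map_comp, hθ₂, hθ₂, p_map_x]
            simp [r]
          · rw [Category.assoc, hθ₁, Category.assoc, ← x.map_comp, hr, hθ₁]
        have h2 : R.arrows (r ≫ resHom o _).hom := by rw [hr]; exact h'
        have h3 : x.map r ≫ (e (resHom o (𝒳.p.map κ ≫ eqToHom (x.w_obj o))) hκ :) = e (r ≫ resHom o _) h2 :=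
          he r (resHom o (𝒳.p.map κ ≫ eqToHom (x.w_obj o))) hκ h2
        rw [reassoc_of% h1, h3]
        congr 2 }
  have : (_root_.Stk.resSieve R' 𝒳).IsEquivalence := hst.2 R' hR'
  obtain ⟨φ, hφp, hφ⟩ := Descent.exists_hom hst.1 (R := R') inferInstance L
  refine ⟨φ, fun {o'} m h => ?_, fun φ' hφ' => ?_⟩
  · change x.map m ≫ φ = e m h
    have hmem : R' (𝒳.p.map (x.map m)) := by
      change R.arrows (𝒳.p.map (x.map m) ≫ eqToHom (x.w_obj o))
      rw [p_map_x]
      simpa using R.downward_closed h (eqToHom (x.w_obj o'))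
    rw [hφ (x.map m) hmem]
    let l : o' ⟶ resObj o (𝒳.p.map (x.map m) ≫ eqToHom (x.w_obj o)) :=
      ⟨eqToHom (x.w_obj o').symm, (map_map_sec _ _ _ (by rw [p_map_x]; simp) _).trans m.map_sec⟩
    have hl : l ≫ resHom o _ = m := Stk.EltObj.hom_ext (by simp [l, p_map_x])
    have h2 : R.arrows (l ≫ resHom o _).hom := by rw [hl]; exact h
    have h3 : x.map l ≫ (e (resHom o (𝒳.p.map (x.map m) ≫ eqToHom (x.w_obj o))) hmem :) = e (l ≫ resHom o _) h2 :=
      he l (resHom o (𝒳.p.map (x.map m) ≫ eqToHom (x.w_obj o))) hmem h2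
    have h4 : x.map l = θ (x.map m) := hθu (x.map m) (x.map l)
      (by rw [← x.map_comp, hl]) ((p_map_x x l).trans (by simp [l]))
    change θ (x.map m) ≫ _ = _
    rw [← h4, h3]
    congr 1
  · change x.obj o ⟶ a at φ'
    have hp : 𝒳.p.map φ' = 𝒳.p.map φ := by
      rw [hφp]
      have key : eqToHom (x.w_obj o).symm ≫ 𝒳.p.map φ' = χ := by
        refine (AlgSp.yon S).map_injective (GrothLib.SpQuot.hom_ext_cover hR fun W f hf => ?_)
        rw [← Functor.map_comp, ← Functor.map_comp]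
        congr 1
        rw [hχ f hf]
        have h1 : x.map (resHom o f) ≫ φ' = e (resHom o f) hf := hφ' (resHom o f) hf
        change _ = eqToHom _ ≫ 𝒳.p.map (e (resHom o f) hf : x.obj (resObj o f) ⟶ a)
        rw [← h1, 𝒳.p.map_comp, p_map_x]
        simp
      rw [← key]; simp
    refine Descent.hom_ext hst.1 (R := R') inferInstance φ' φ hp fun {a'} κ hκ => ?_
    rw [hφ κ hκ]
    exact (congrArg (· ≫ φ') (hθ₁ κ).symm).trans ((Category.assoc _ _ _).trans
      (congrArg (θ κ ≫ ·) (hφ' (resHom o (𝒳.p.map κ ≫ eqToHom (x.w_obj o))) hκ)))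

/-- Automorphisms of the values of `x` over the identity. -/
noncomputable def autE : ((ofSp U).obj)ᵒᵖ ⥤ Type u where
  obj o := Gerb.AutO (x.obj o.unop)
  map m := TypeCat.ofHom fun α => Band.pull hst.1 (x.map m.unop) α
  map_id o := by
    refine ConcreteCategory.hom_ext _ _ fun α => ?_
    change Band.pull hst.1 (x.map (𝟙 o.unop)) α = α
    rw [x.map_id, Band.pull_id]
  map_comp m m' := by
    refine ConcreteCategory.hom_ext _ _ fun α => ?_
    change Band.pull hst.1 (x.map (m'.unop ≫ m.unop)) α = Band.pull hst.1 (x.map m'.unop) (Band.pull hst.1 (x.map m.unop) α)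
    rw [x.map_comp, Band.pull_comp]

theorem glues_autE : Glues (autE x hst) := by
  intro o R hR e he
  let e' : ∀ {o' : (ofSp U).obj} (m : o' ⟶ o), R.arrows m.hom → (homE x (x.obj o)).obj (op o') :=
    fun {o'} m h => Band.val (e m h : Gerb.AutO (x.obj o')) ≫ x.map m
  obtain ⟨φ, hφ, hφu⟩ := glues_homE x hst (x.obj o) o R hR e' (fun {o'' o'} l m h h' => by
    change x.map l ≫ Band.val (e m h : Gerb.AutO (x.obj o')) ≫ x.map m = Band.val (e (l ≫ m) h' : Gerb.AutO (x.obj o'')) ≫ x.map (l ≫ m)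
    rw [← he l m h h', x.map_comp]
    exact ((Band.pull_spec hst.1 (x.map l) (e m h : Gerb.AutO (x.obj o'))) =≫ x.map m).symm.trans (Category.assoc _ _ _) |> fun e₁ =>
      (Category.assoc _ _ _).symm.trans e₁)
  have hb : 𝒳.p.map φ = 𝟙 _ := by
    have key : eqToHom (x.w_obj o).symm ≫ 𝒳.p.map φ ≫ eqToHom (x.w_obj o) = 𝟙 o.base := by
      refine (AlgSp.yon S).map_injective (GrothLib.SpQuot.hom_ext_cover hR fun W f hf => ?_)
      rw [← Functor.map_comp, ← Functor.map_comp]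
      congr 1
      have h1 : x.map (resHom o f) ≫ φ = Band.val (e (resHom o f) hf : Gerb.AutO (x.obj (resObj o f))) ≫ x.map (resHom o f) :=
        hφ (resHom o f) hf
      have h2 := congrArg 𝒳.p.map h1
      rw [𝒳.p.map_comp, 𝒳.p.map_comp, Band.map_val, p_map_x] at h2
      simp only [Category.id_comp, Category.assoc] at h2
      have h3 := congrArg (fun t => eqToHom (x.w_obj (resObj o f)).symm ≫ t ≫ eqToHom (x.w_obj o)) h2
      simpa using h3
    have h4 := congrArg (fun t => eqToHom (x.w_obj o) ≫ t ≫ eqToHom (x.w_obj o).symm) key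
    simpa using h4
  have hl : 𝒳.p.IsHomLift (𝟙 (𝒳.p.obj (x.obj o))) φ := hb ▸ IsHomLift.map 𝒳.p φ
  have := IsFibGrpd.isIso_of_isHomLift_id hst.1 (R := 𝒳.p.obj (x.obj o)) φ
  refine ⟨GerbeAut.autOfIso (asIso φ) hl, fun {o'} m h => ?_, fun α hα => ?_⟩
  · exact Band.pull_eq hst.1 (hφ m h).symm
  · refine Band.autO_ext (hφu (Band.val α) fun {o'} m h => ?_)
    change x.map m ≫ Band.val α = Band.val (e m h : Gerb.AutO (x.obj o')) ≫ x.map m
    rw [← hα m h]
    exact (Band.pull_spec hst.1 (x.map m) α).symm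

end GrothLib.AlgSt.Neut
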