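import Groth.Agent.Lib.AlgSt.Gerbe.Neut.Torsor

/-!
# Objects are determined by their torsors
-/

set_option backward.isDefEq.respectTransparency false
set_option backward.isDefEq.respectTransparency.types false

universe u

open CategoryTheory CategoryTheory.Limits AlgebraicGeometry Opposite MonoidalCategory CartesianMonoidalCategory MonObj

namespace GrothLib.AlgSt.Neut

open _root_.AlgSt GrothLib.FibCat GrothLib.Stk GrothLib.SpQuot

variable {S : Scheme.{u}} {U : AlgSp.Sp S} {𝒳 : _root_.AlgSt.Cat S} {x : ofSp U ⥤ᵇ 𝒳}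
  {hst : _root_.Stk.IsStack (AlgSp.J S) 𝒳} (r : Retr x) {a b : 𝒳.obj}

include r in
theorem eq_of_vertical {o o' : (ofSp U).obj} (m : x.obj o ⟶ x.obj o') (e : 𝒳.p.obj (x.obj o) = 𝒳.p.obj (x.obj o'))
    (hm : 𝒳.p.map m = eqToHom e) : o = o' := by
  refine eltObj_eq ((x.w_obj o).symm.trans (e.trans (x.w_obj o'))) ?_
  rw [← r.eq_of_hom m, hm, r.sec_x]
  exact (map_map_sec _ _ _ (by simp) _).symm

theorem eq_mk_id (o : (ofSp U).obj) : o = (⟨o.base, U.obj.map (𝟙 o.base).op o.sec⟩ : (ofSp U).obj) :=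
  congrArg (Stk.EltObj.mk o.base) (Functor.map_id_apply U.obj _ o.sec).symm

theorem map_eq_id {o : (ofSp U).obj} (k : o ⟶ o) (hk : k.hom = 𝟙 o.base) : x.map k = 𝟙 (x.obj o) :=
  (congrArg x.map (Stk.EltObj.hom_ext hk : k = 𝟙 o)).trans (x.map_id o)

/-- The test object of a point of `U`. -/
noncomputable abbrev testObj (o : (ofSp U).obj) : Over U :=
  Over.mk ((((AlgSp.J S).uliftYonedaEquiv (F := U)).symm o.sec : (AlgSp.yon S).obj o.base ⟶ U))

/-- The morphism to `o` from a point of the test object. -/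
abbrev testHom (o : (ofSp U).obj) {W : Over S} (f : ((AlgSp.yon S).obj o.base).obj.obj (op W)) :
    (⟨W, (testObj o).hom.hom.app (op W) f⟩ : (ofSp U).obj) ⟶ o := ⟨f.down, rfl⟩

/-- An automorphism as a point over the test object. -/
noncomputable def autPt (o : (ofSp U).obj) (α : Gerb.AutO (x.obj o)) : testObj o ⟶ autG x hst :=
  gMk (fun W f => Band.pull hst.1 (x.map (testHom o f)) α) (fun {W W'} g z k hk => by
    rw [← Band.pull_comp, ← x.map_comp]
    exact congrArg (fun t => Band.pull hst.1 (x.map t) α) (Stk.EltObj.hom_ext (by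
      rw [Stk.EltObj.comp_hom, hk]; rfl)))

/-- A morphism as a point over the test object. -/
noncomputable def morPt {o : (ofSp U).obj} (κ : x.obj o ⟶ a) : testObj o ⟶ homP (x := x) hst a :=
  hMk (fun W f => x.map (testHom o f) ≫ κ) (fun {W W'} g z k hk => by
    rw [← Category.assoc, ← x.map_comp]
    exact congrArg (fun t => x.map t ≫ κ) (Stk.EltObj.hom_ext (by
      rw [Stk.EltObj.comp_hom, hk]; rfl)))

/-- The image of a morphism under a map of torsors. -/
def valTop (top : homP (x := x) hst a ⟶ homP (x := x) hst b) (o : (ofSp U).obj) (κ : x.obj o ⟶ a) : x.obj o ⟶ b :=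
  hEl top o.base (⟨o.sec, κ⟩ : (homP (x := x) hst a).left.obj.obj (op o.base))

theorem valTop_natural (top : homP (x := x) hst a ⟶ homP (x := x) hst b) {o o' : (ofSp U).obj} (m : o' ⟶ o)
    (κ : x.obj o ⟶ a) : x.map m ≫ valTop top o κ = valTop top o' (x.map m ≫ κ) := by
  obtain ⟨T', v⟩ := o'
  obtain ⟨T, u⟩ := o
  obtain ⟨f, hf⟩ := m
  change T' ⟶ T at f
  change U.obj.map f.op u = v at hf
  subst hf
  exact (hEl_natural top f (⟨u, κ⟩ : (homP (x := x) hst a).left.obj.obj (op T)) ⟨f, rfl⟩ rfl).symm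

theorem hEl_morPt_comp (top : homP (x := x) hst a ⟶ homP (x := x) hst b) {o : (ofSp U).obj} (κ : x.obj o ⟶ a)
    (W : Over S) (f : ((AlgSp.yon S).obj o.base).obj.obj (op W)) :
    hEl (morPt (hst := hst) κ ≫ top) W f = x.map (testHom o f) ≫ valTop top o κ := by
  rw [valTop_natural, hEl_comp]
  exact (congrArg (· ≫ _) ((congrArg x.map (Stk.EltObj.hom_ext rfl : (tr _ : (⟨W, (testObj o).hom.hom.app (op W) f⟩ : (ofSp U).obj) ⟶ _) = 𝟙 _)).trans (x.map_id _))).trans (Category.id_comp _)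

theorem valTop_aut (top : homP (x := x) hst a ⟶ homP (x := x) hst b)
    (he : (actP hst a).act ≫ top = (autG x hst ◁ top) ≫ (actP hst b).act)
    (o : (ofSp U).obj) (α : Gerb.AutO (x.obj o)) (κ : x.obj o ⟶ a) :
    valTop top o (Band.val α ≫ κ) = Band.val α ≫ valTop top o κ := by
  have h1 : gmPt (autPt (hst := hst) o α⁻¹) (morPt (hst := hst) κ) = morPt (hst := hst) (Band.val α ≫ κ) :=
    hEl_ext fun W f => by
      rw [hEl_gmPt, autPt, gEl_gMk, morPt, hEl_hMk, morPt, hEl_hMk, ← map_inv, inv_inv, ← Category.assoc,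
        comm_val (hst := hst), Category.assoc]
  have h2 : morPt (hst := hst) (Band.val α ≫ κ) ≫ top = gmPt (autPt (hst := hst) o α⁻¹) (morPt (hst := hst) κ ≫ top) := by
    rw [← h1, ← gm_actP, gm_comp (actP hst a) he, gm_actP]
  have h3 := congrArg (fun p => hEl p o.base (⟨𝟙 o.base⟩ : ((AlgSp.yon S).obj o.base).obj.obj (op o.base))) h2
  simp only [hEl_gmPt, hEl_morPt_comp] at h3
  rw [autPt, gEl_gMk, ← map_inv, inv_inv, ← Category.assoc, comm_val (hst := hst), Category.assoc] at h3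
  have hi : IsIso (x.map (testHom o (⟨𝟙 o.base⟩ : ((AlgSp.yon S).obj o.base).obj.obj (op o.base)))) := by
    rw [IsFibGrpd.isIso_iff hst.1, p_map_x]
    change IsIso (_ ≫ 𝟙 o.base ≫ _)
    infer_instance
  exact (cancel_epi _).1 h3

theorem p_map_valTop (top : homP (x := x) hst a ⟶ homP (x := x) hst b) (f : 𝒳.p.obj a ⟶ 𝒳.p.obj b)
    (comm : top.left ≫ (piP hst r b).left = (piP hst r a).left ≫ (AlgSp.yon S).map f)
    (o : (ofSp U).obj) (κ : x.obj o ⟶ a) : 𝒳.p.map (valTop top o κ) = 𝒳.p.map κ ≫ f := by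
  have h1 := piP_app r top o.base (⟨o.sec, κ⟩ : (homP (x := x) hst a).left.obj.obj (op o.base))
  rw [show (top ≫ piP hst r b).left = (piP hst r a).left ≫ (AlgSp.yon S).map f from comm] at h1
  have h2 : (eqToHom (x.w_obj o).symm ≫ 𝒳.p.map κ) ≫ f = eqToHom (x.w_obj o).symm ≫ 𝒳.p.map (valTop top o κ) := h1
  rw [Category.assoc] at h2
  exact ((cancel_epi _).1 h2).symm

theorem valTop_postHom (φ : a ⟶ b) (o : (ofSp U).obj) (κ : x.obj o ⟶ a) :
    valTop (postHom (x := x) hst φ) o κ = κ ≫ φ := by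
  unfold valTop postHom
  rw [hEl_hMk]
  refine congrArg (· ≫ φ) ?_
  exact (congrArg (fun k : x.obj o ⟶ x.obj o => k ≫ κ) (map_eq_id (x := x) (o := o) _ rfl)).trans (Category.id_comp κ)

variable (hst) in
include hst in
/-- Covering: a morphism into `a` factors isomorphically through values of `x`. -/
theorem exists_rep (hx : IsLocVal x) (a : 𝒳.obj) : ∃ R ∈ AlgSp.J S (𝒳.p.obj a), ∀ {a' : 𝒳.obj} (κ : a' ⟶ a), R (𝒳.p.map κ) →
    ∃ (o : (ofSp U).obj) (θ : a' ⟶ x.obj o) (m : x.obj o ⟶ a) (e : 𝒳.p.obj a' = 𝒳.p.obj (x.obj o)),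
      𝒳.p.map θ = eqToHom e ∧ θ ≫ m = κ := by
  obtain ⟨R, hR, h⟩ := hx a
  refine ⟨R, hR, fun {a'} κ hκ => ?_⟩
  obtain ⟨o, m, hm⟩ := h (𝒳.p.map κ) hκ
  have := hm
  have := IsHomLift.map 𝒳.p κ
  obtain ⟨θ, hθ, e⟩ := IsFibGrpd.exists_iso_of_lifts hst.1 (𝒳.p.map κ) m κ
  have := hθ
  refine ⟨o, θ.hom, m, (IsHomLift.domain_eq 𝒳.p (𝒳.p.map κ) m).symm, ?_, e⟩
  rw [IsHomLift.fac' 𝒳.p (𝟙 (𝒳.p.obj a')) θ.hom]
  simp

theorem rep_indep (top : homP (x := x) hst a ⟶ homP (x := x) hst b)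
    (he : (actP hst a).act ≫ top = (autG x hst ◁ top) ≫ (actP hst b).act) (r : Retr x)
    {a' : 𝒳.obj} {o o' : (ofSp U).obj} (θ : a' ⟶ x.obj o) (θ' : a' ⟶ x.obj o') (m : x.obj o ⟶ a) (m' : x.obj o' ⟶ a)
    (e : 𝒳.p.obj a' = 𝒳.p.obj (x.obj o)) (e' : 𝒳.p.obj a' = 𝒳.p.obj (x.obj o'))
    (hθ : 𝒳.p.map θ = eqToHom e) (hθ' : 𝒳.p.map θ' = eqToHom e') (h : θ ≫ m = θ' ≫ m') :
    θ ≫ valTop top o m = θ' ≫ valTop top o' m' := by
  have : IsIso θ := by rw [IsFibGrpd.isIso_iff hst.1, hθ]; infer_instance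
  have h1 : 𝒳.p.map (inv θ ≫ θ') = eqToHom (e.symm.trans e') := by
    rw [𝒳.p.map_comp, Functor.map_inv, hθ', IsIso.inv_comp_eq, hθ]
    simp
  obtain rfl := eq_of_vertical r (inv θ ≫ θ') (e.symm.trans e') h1
  rw [eqToHom_refl] at h1
  have hl : 𝒳.p.IsHomLift (𝟙 (𝒳.p.obj (x.obj o))) (inv θ ≫ θ') := h1 ▸ IsHomLift.map 𝒳.p _
  have := IsFibGrpd.isIso_of_isHomLift_id hst.1 (R := 𝒳.p.obj (x.obj o)) (inv θ ≫ θ')
  let α : Gerb.AutO (x.obj o) := GerbeAut.autOfIso (asIso (inv θ ≫ θ')) hl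
  have hm : m = Band.val α ≫ m' := by
    change m = (inv θ ≫ θ') ≫ m'
    rw [Category.assoc, ← h, IsIso.inv_hom_id_assoc]
  rw [hm, valTop_aut top he]
  change θ ≫ (inv θ ≫ θ') ≫ _ = _
  rw [Category.assoc, IsIso.hom_inv_id_assoc]

theorem toBG_faithful (hx : IsLocVal x) : (toBG hst r hx).toFunctor.Faithful where
  map_injective {a b} φ ψ h := by
    obtain ⟨R, hR, hrep⟩ := exists_rep hst hx a
    have : (_root_.Stk.resSieve R 𝒳).IsEquivalence := hst.2 R hR
    refine Descent.hom_ext hst.1 (R := R) inferInstance φ ψ (congrArg SpQuotObj.Hom.base h) fun {a'} κ hκ => ?_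
    obtain ⟨o, θ, m, e, -, rfl⟩ := hrep κ hκ
    rw [Category.assoc, Category.assoc, ← valTop_postHom (hst := hst) φ o m, ← valTop_postHom (hst := hst) ψ o m]
    rw [show postHom (x := x) hst φ = postHom (x := x) hst ψ from congrArg SpQuotObj.Hom.top h]

theorem toBG_full (hx : IsLocVal x) : (toBG hst r hx).toFunctor.Full where
  map_surjective {a b} F := by
    let top : homP (x := x) hst a ⟶ homP (x := x) hst b := F.top
    let f : 𝒳.p.obj a ⟶ 𝒳.p.obj b := F.base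
    have comm : top.left ≫ (piP hst r b).left = (piP hst r a).left ≫ (AlgSp.yon S).map f := SpQuot.hom_comm_left F
    have he : (actP hst a).act ≫ top = (autG x hst ◁ top) ≫ (actP hst b).act := F.eqv
    obtain ⟨R, hR, hrep⟩ := exists_rep hst hx a
    choose o θ m e hθ hm using @hrep
    let L : Descent.Local 𝒳.p a b R f :=
      { n := fun κ hκ => θ κ hκ ≫ valTop top (o κ hκ) (m κ hκ)
        map_n := fun κ hκ => by
          rw [𝒳.p.map_comp, p_map_valTop r top f comm, ← Category.assoc, ← 𝒳.p.map_comp, hm]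
        comp := fun {a'' a'} l κ hκ h' => by
          obtain ⟨t, ht, htp, -⟩ := exists_factor x hst (o κ hκ) (l ≫ θ κ hκ)
          refine ((Category.assoc _ _ _).symm.trans ((congrArg (· ≫ valTop top (o κ hκ) (m κ hκ)) ht.symm).trans
            (Category.assoc _ _ _))).trans ?_
          rw [valTop_natural]
          refine rep_indep top he r t _ _ _ (x.w_obj (resObj (o κ hκ) _)).symm (e _ h') htp (hθ _ h') ?_
          rw [← Category.assoc, ht, Category.assoc, hm, hm] }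
    have : (_root_.Stk.resSieve R 𝒳).IsEquivalence := hst.2 R hR
    obtain ⟨φ, hφp, hφ⟩ := Descent.exists_hom hst.1 (R := R) inferInstance L
    refine ⟨φ, SpQuotObj.hom_ext hφp (hEl_ext (hst := hst) fun W q => ?_)⟩
    change hEl (postHom (x := x) hst φ) W q = hEl top W q
    obtain ⟨v, κ⟩ := q
    change valTop (postHom (x := x) hst φ) ⟨W, v⟩ κ = valTop top ⟨W, v⟩ κ
    rw [valTop_postHom]
    change x.obj (⟨W, v⟩ : (ofSp U).obj) ⟶ a at κ
    let oW : (ofSp U).obj := ⟨W, v⟩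
    let R' : Sieve (𝒳.p.obj (x.obj oW)) := R.pullback (𝒳.p.map κ)
    have : (_root_.Stk.resSieve R' 𝒳).IsEquivalence := hst.2 R' ((AlgSp.J S).pullback_stable _ hR)
    refine Descent.hom_ext hst.1 (R := R') inferInstance _ _ ?_ fun {a'} l hl => ?_
    · rw [p_map_valTop r top f comm, 𝒳.p.map_comp, hφp]
    · obtain ⟨t, ht, htp, -⟩ := exists_factor x hst oW l
      have hlκ : R (𝒳.p.map (l ≫ κ)) := by rw [𝒳.p.map_comp]; exact hl
      refine Eq.trans ?_ (((congrArg (· ≫ valTop top oW κ) ht.symm).trans (Category.assoc _ _ _)).symm)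
      rw [← Category.assoc, hφ (l ≫ κ) hlκ, valTop_natural]
      refine rep_indep top he r _ t _ _ (e _ hlκ) (x.w_obj (resObj oW _)).symm (hθ _ hlκ) htp ?_
      rw [hm, ← Category.assoc, ht]

end GrothLib.AlgSt.Neut
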