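import Groth.Agent.Lib.AlgSt.Gerbe.Neut.Fibres
import Mathlib.CategoryTheory.Monoidal.Cartesian.Grp
import Groth.Prelude.Def_AlgSpGpd

/-!
# The group sheaf of automorphisms along a map from a space
-/

set_option backward.isDefEq.respectTransparency false
set_option backward.isDefEq.respectTransparency.types false

universe u

open CategoryTheory CategoryTheory.Limits AlgebraicGeometry Opposite MonoidalCategory CartesianMonoidalCategory MonObj

namespace GrothLib.AlgSt.Neut

open _root_.AlgSt GrothLib.FibCat GrothLib.Stk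

variable {S : Scheme.{u}} {U : AlgSp.Sp S}

/-- The identification of two equal points. -/
abbrev tr {W : Over S} {v v' : U.obj.obj (op W)} (h : v = v') : (⟨W, v⟩ : (ofSp U).obj) ⟶ ⟨W, v'⟩ :=
  ⟨𝟙 W, (Functor.map_id_apply U.obj _ _).trans h.symm⟩

section Points

variable {E : ((ofSp U).obj)ᵒᵖ ⥤ Type u} {hE : Glues E} {Z Z' : Over U}

theorem fst_eq (f : Z ⟶ sigmaSp hE) (W : Over S) (z : Z.left.obj.obj (op W)) :
    (f.left.hom.app (op W) z).1 = Z.hom.hom.app (op W) z :=
  (ConcreteCategory.congr_hom (congrArg (fun m : Z.left ⟶ U => m.hom.app (op W)) (Over.w f)) z :)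

/-- The fibre component of a point. -/
def el (f : Z ⟶ sigmaSp hE) (W : Over S) (z : Z.left.obj.obj (op W)) :
    E.obj (op (⟨W, Z.hom.hom.app (op W) z⟩ : (ofSp U).obj)) :=
  E.map (tr (fst_eq f W z).symm).op (f.left.hom.app (op W) z).2

theorem el_ext {f g : Z ⟶ sigmaSp hE} (h : ∀ W z, el f W z = el g W z) : f = g := by
  refine Over.OverMorphism.ext ?_
  apply Sheaf.hom_ext
  refine NatTrans.ext (funext fun W => ConcreteCategory.hom_ext _ _ fun z => ?_)
  have e := h W.unop z
  have hfg : (f.left.hom.app (op W.unop) z).1 = (g.left.hom.app (op W.unop) z).1 :=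
    (fst_eq f W.unop z).trans (fst_eq g W.unop z).symm
  refine sigma_ext E (T := W.unop) hfg ?_
  have e' : E.map (tr (fst_eq f W.unop z)).op (E.map (tr (fst_eq f W.unop z).symm).op (f.left.hom.app (op W.unop) z).2) =
      E.map (tr (fst_eq f W.unop z)).op (E.map (tr (fst_eq g W.unop z).symm).op (g.left.hom.app (op W.unop) z).2) :=
    congrArg (fun t => E.map (tr (fst_eq f W.unop z)).op t) e
  rw [map_map, map_map] at e'
  refine (map_congr E _ (tr (fst_eq f W.unop z) ≫ tr (fst_eq g W.unop z).symm) ?_ _).trans (e'.symm.trans ?_)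
  · rw [eltObj_eqToHom_hom]
    exact (Category.id_comp _).symm
  · exact (map_congr E _ (𝟙 _) (Category.id_comp _) _).trans (Functor.map_id_apply E _ _)

theorem el_natural (f : Z ⟶ sigmaSp hE) {W W' : Over S} (r : W' ⟶ W) (z : Z.left.obj.obj (op W))
    (k : (⟨W', Z.hom.hom.app (op W') (Z.left.obj.map r.op z)⟩ : (ofSp U).obj) ⟶ ⟨W, Z.hom.hom.app (op W) z⟩)
    (hk : k.hom = r) : el f W' (Z.left.obj.map r.op z) = E.map k.op (el f W z) := by
  have hn : (sigmaPsh E).map r.op (f.left.hom.app (op W) z) = f.left.hom.app (op W') (Z.left.obj.map r.op z) :=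
    (NatTrans.naturality_apply f.left.hom r.op z).symm
  have h2 := sigma_eq_map r _ hn ⟨r, congrArg Sigma.fst hn⟩ rfl
  refine (congrArg (fun t => E.map _ t) h2).trans ?_
  refine map_two _ _ _ _ ?_ _
  change 𝟙 W' ≫ r = k.hom ≫ 𝟙 W
  rw [hk, Category.id_comp, Category.comp_id]

/-- The point with given fibre components. -/
def mkPt (t : ∀ (W : Over S) (z : Z.left.obj.obj (op W)), E.obj (op (⟨W, Z.hom.hom.app (op W) z⟩ : (ofSp U).obj)))
    (ht : ∀ {W W' : Over S} (r : W' ⟶ W) (z : Z.left.obj.obj (op W))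
      (k : (⟨W', Z.hom.hom.app (op W') (Z.left.obj.map r.op z)⟩ : (ofSp U).obj) ⟶ ⟨W, Z.hom.hom.app (op W) z⟩)
      (_ : k.hom = r), t W' (Z.left.obj.map r.op z) = E.map k.op (t W z)) :
    Z ⟶ sigmaSp hE :=
  Over.homMk (show Z.left ⟶ (sigmaSp hE).left from
    ⟨{ app := fun W => TypeCat.ofHom fun z => ⟨Z.hom.hom.app W z, t W.unop z⟩
       naturality := fun W W' r => by
        refine ConcreteCategory.hom_ext _ _ fun z => ?_
        have hn : Z.hom.hom.app W' (Z.left.obj.map r z) = U.obj.map r (Z.hom.hom.app W z) :=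
          NatTrans.naturality_apply Z.hom.hom r z
        refine sigma_ext E (T := W'.unop) hn ?_
        change E.map (eqToHom _).op (E.map (Quiver.Hom.op _) (t W.unop z)) = t W'.unop (Z.left.obj.map r z)
        refine Eq.trans ?_ (ht r.unop z ⟨r.unop, hn.symm⟩ rfl).symm
        rw [map_map]
        refine map_congr E _ _ ?_ _
        rw [Stk.EltObj.comp_hom, eltObj_eqToHom_hom]
        exact Category.id_comp _ }⟩) rfl

theorem el_mkPt (t : ∀ (W : Over S) (z : Z.left.obj.obj (op W)), E.obj (op (⟨W, Z.hom.hom.app (op W) z⟩ : (ofSp U).obj))) (ht)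
    (W : Over S) (z : Z.left.obj.obj (op W)) : el (mkPt (hE := hE) t ht) W z = t W z :=
  (map_congr E (tr (fst_eq (mkPt (hE := hE) t ht) W z).symm) (𝟙 _) rfl (t W z)).trans (Functor.map_id_apply E _ _)

theorem comp_fst_eq (g : Z' ⟶ Z) (W : Over S) (z : Z'.left.obj.obj (op W)) :
    Z.hom.hom.app (op W) (g.left.hom.app (op W) z) = Z'.hom.hom.app (op W) z :=
  ConcreteCategory.congr_hom (congrArg (fun m : Z'.left ⟶ U => m.hom.app (op W)) (Over.w g)) z

theorem el_comp (g : Z' ⟶ Z) (f : Z ⟶ sigmaSp hE) (W : Over S) (z : Z'.left.obj.obj (op W)) :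
    el (g ≫ f) W z = E.map (tr (comp_fst_eq g W z).symm).op (el f W (g.left.hom.app (op W) z)) :=
  ((map_map E _ _ _).trans (map_congr E _ _ (Category.id_comp _) _)).symm

end Points

variable {𝒳 : _root_.AlgSt.Cat S} (x : ofSp U ⥤ᵇ 𝒳) (hst : _root_.Stk.IsStack (AlgSp.J S) 𝒳)

/-- The sheaf of automorphisms along `x`. -/
noncomputable def autG : Over U := sigmaSp (glues_autE x hst)

variable {x hst}

/-- The components of a point of the automorphism sheaf. -/
noncomputable def gEl {Z : Over U} (f : Z ⟶ autG x hst) (W : Over S) (z : Z.left.obj.obj (op W)) :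
    Gerb.AutO (x.obj (⟨W, Z.hom.hom.app (op W) z⟩ : (ofSp U).obj)) := el (E := autE x hst) f W z

theorem gEl_natural {Z : Over U} (f : Z ⟶ autG x hst) {W W' : Over S} (r : W' ⟶ W) (z : Z.left.obj.obj (op W))
    (k : (⟨W', Z.hom.hom.app (op W') (Z.left.obj.map r.op z)⟩ : (ofSp U).obj) ⟶ ⟨W, Z.hom.hom.app (op W) z⟩)
    (hk : k.hom = r) : gEl f W' (Z.left.obj.map r.op z) = Band.pull hst.1 (x.map k) (gEl f W z) :=
  el_natural (E := autE x hst) f r z k hk

theorem gEl_ext {Z : Over U} {f g : Z ⟶ autG x hst} (h : ∀ W z, gEl f W z = gEl g W z) : f = g :=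
  el_ext (E := autE x hst) h

theorem gEl_comp {Z Z' : Over U} (g : Z' ⟶ Z) (f : Z ⟶ autG x hst) (W : Over S) (z : Z'.left.obj.obj (op W)) :
    gEl (g ≫ f) W z = Band.pull hst.1 (x.map (tr (comp_fst_eq g W z).symm)) (gEl f W (g.left.hom.app (op W) z)) :=
  el_comp (E := autE x hst) g f W z

/-- The point with given automorphisms. -/
noncomputable def gMk {Z : Over U}
    (t : ∀ (W : Over S) (z : Z.left.obj.obj (op W)), Gerb.AutO (x.obj (⟨W, Z.hom.hom.app (op W) z⟩ : (ofSp U).obj)))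
    (ht : ∀ {W W' : Over S} (r : W' ⟶ W) (z : Z.left.obj.obj (op W))
      (k : (⟨W', Z.hom.hom.app (op W') (Z.left.obj.map r.op z)⟩ : (ofSp U).obj) ⟶ ⟨W, Z.hom.hom.app (op W) z⟩)
      (_ : k.hom = r), t W' (Z.left.obj.map r.op z) = Band.pull hst.1 (x.map k) (t W z)) :
    Z ⟶ autG x hst := mkPt (E := autE x hst) t ht

theorem gEl_gMk {Z : Over U}
    (t : ∀ (W : Over S) (z : Z.left.obj.obj (op W)), Gerb.AutO (x.obj (⟨W, Z.hom.hom.app (op W) z⟩ : (ofSp U).obj))) (ht)
    (W : Over S) (z : Z.left.obj.obj (op W)) : gEl (gMk (hst := hst) t ht) W z = t W z :=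
  el_mkPt (E := autE x hst) t ht W z

/-- Product of points. -/
noncomputable def gMulPt {Z : Over U} (f g : Z ⟶ autG x hst) : Z ⟶ autG x hst :=
  gMk (fun W z => gEl f W z * gEl g W z) (fun r z k hk =>
    (congrArg₂ (· * ·) (gEl_natural f r z k hk) (gEl_natural g r z k hk)).trans (MonoidHom.map_mul _ _ _).symm)

/-- The trivial point. -/
noncomputable def gOnePt (Z : Over U) : Z ⟶ autG x hst :=
  gMk (fun _ _ => 1) (fun _ _ _ _ => (MonoidHom.map_one _).symm)

/-- Inverse of a point. -/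
noncomputable def gInvPt {Z : Over U} (f : Z ⟶ autG x hst) : Z ⟶ autG x hst :=
  gMk (fun W z => (gEl f W z)⁻¹) (fun r z k hk =>
    (congrArg (·⁻¹) (gEl_natural f r z k hk)).trans (MonoidHom.map_inv _ _).symm)

theorem gEl_gMulPt {Z : Over U} (f g : Z ⟶ autG x hst) (W : Over S) (z : Z.left.obj.obj (op W)) :
    gEl (gMulPt f g) W z = gEl f W z * gEl g W z := gEl_gMk _ _ W z

theorem gEl_gOnePt {Z : Over U} (W : Over S) (z : Z.left.obj.obj (op W)) :
    gEl (gOnePt (x := x) (hst := hst) Z) W z = 1 := gEl_gMk _ _ W z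

theorem gEl_gInvPt {Z : Over U} (f : Z ⟶ autG x hst) (W : Over S) (z : Z.left.obj.obj (op W)) :
    gEl (gInvPt f) W z = (gEl f W z)⁻¹ := gEl_gMk _ _ W z

theorem comp_gMulPt {Z Z' : Over U} (e : Z' ⟶ Z) (f g : Z ⟶ autG x hst) :
    e ≫ gMulPt f g = gMulPt (e ≫ f) (e ≫ g) := gEl_ext fun W z =>
  (gEl_comp e _ W z).trans ((congrArg _ (gEl_gMulPt f g W _)).trans ((MonoidHom.map_mul _ _ _).trans
    ((congrArg₂ (· * ·) (gEl_comp e f W z) (gEl_comp e g W z)).symm.trans (gEl_gMulPt _ _ W z).symm)))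

theorem comp_gOnePt {Z Z' : Over U} (e : Z' ⟶ Z) :
    e ≫ gOnePt (x := x) (hst := hst) Z = gOnePt Z' := gEl_ext fun W z =>
  (gEl_comp e _ W z).trans ((congrArg _ (gEl_gOnePt W _)).trans ((MonoidHom.map_one _).trans (gEl_gOnePt W z).symm))

/-- The group law on points. -/
noncomputable abbrev ptGroup (Z : Over U) : Group (Z ⟶ autG x hst) where
  mul := gMulPt
  one := gOnePt Z
  inv := gInvPt
  mul_assoc f g h := gEl_ext fun W z => by
    show gEl (gMulPt (gMulPt f g) h) W z = gEl (gMulPt f (gMulPt g h)) W z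
    simp only [gEl_gMulPt]
    exact _root_.mul_assoc _ _ _
  one_mul f := gEl_ext fun W z => by
    show gEl (gMulPt (gOnePt Z) f) W z = _
    simp only [gEl_gMulPt, gEl_gOnePt]
    exact _root_.one_mul _
  mul_one f := gEl_ext fun W z => by
    show gEl (gMulPt f (gOnePt Z)) W z = _
    simp only [gEl_gMulPt, gEl_gOnePt]
    exact _root_.mul_one _
  inv_mul_cancel f := gEl_ext fun W z => by
    show gEl (gMulPt (gInvPt f) f) W z = gEl (gOnePt Z) W z
    simp only [gEl_gMulPt, gEl_gOnePt, gEl_gInvPt, inv_mul_cancel]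

variable (x hst)

/-- The presheaf of groups of points. -/
noncomputable def ptFunctor : (Over U)ᵒᵖ ⥤ GrpCat.{u + 1} where
  obj Z := @GrpCat.of (Z.unop ⟶ autG x hst) (ptGroup Z.unop)
  map {Z Z'} g :=
    letI := ptGroup (x := x) (hst := hst) Z.unop
    letI := ptGroup (x := x) (hst := hst) Z'.unop
    GrpCat.ofHom (MonoidHom.mk' (fun f : Z.unop ⟶ autG x hst => g.unop ≫ f) (fun f f' => comp_gMulPt g.unop f f'))
  map_id Z := by
    letI := ptGroup (x := x) (hst := hst) Z.unop
    exact GrpCat.hom_ext (MonoidHom.ext fun f : Z.unop ⟶ autG x hst => Category.id_comp f)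
  map_comp {Z Z' Z''} g g' := by
    letI := ptGroup (x := x) (hst := hst) Z.unop
    letI := ptGroup (x := x) (hst := hst) Z'.unop
    letI := ptGroup (x := x) (hst := hst) Z''.unop
    exact GrpCat.hom_ext (MonoidHom.ext fun f : Z.unop ⟶ autG x hst => Category.assoc _ _ f)

/-- The points are the sections. -/
noncomputable def ptRep : (ptFunctor x hst ⋙ forget _).RepresentableBy (autG x hst) where
  homEquiv := Equiv.refl _
  homEquiv_comp _ _ := rfl

/-- The group structure of the automorphism sheaf. -/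
noncomputable instance grpAutG : GrpObj (autG x hst) := GrpObj.ofRepresentableBy _ (ptFunctor x hst) (ptRep x hst)

variable {x hst}

theorem mul_eq {Z : Over U} (f g : Z ⟶ autG x hst) : f * g = gMulPt f g := by
  show lift f g ≫ gMulPt (fst (autG x hst) (autG x hst)) (snd (autG x hst) (autG x hst)) = _
  rw [comp_gMulPt, lift_fst, lift_snd]

theorem one_eq (Z : Over U) : (1 : Z ⟶ autG x hst) = gOnePt Z := by
  show toUnit Z ≫ gOnePt (𝟙_ (Over U)) = _
  rw [comp_gOnePt]

theorem gEl_mul {Z : Over U} (f g : Z ⟶ autG x hst) (W : Over S) (z : Z.left.obj.obj (op W)) :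
    gEl (f * g) W z = gEl f W z * gEl g W z := by rw [mul_eq, gEl_gMulPt]

theorem gEl_one {Z : Over U} (W : Over S) (z : Z.left.obj.obj (op W)) :
    gEl (1 : Z ⟶ autG x hst) W z = 1 := by rw [one_eq, gEl_gOnePt]

theorem gEl_inv {Z : Over U} (f : Z ⟶ autG x hst) (W : Over S) (z : Z.left.obj.obj (op W)) :
    gEl f⁻¹ W z = (gEl f W z)⁻¹ := by
  rw [eq_inv_iff_mul_eq_one, ← gEl_mul, inv_mul_cancel, gEl_one]

end GrothLib.AlgSt.Neut
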