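import Groth.Agent.Lib.AlgSt.Gerbe.Neut.FullFaith
import Groth.Prelude.Def_StGerb

/-!
# Torsors are locally attached to objects
-/

set_option backward.isDefEq.respectTransparency false
set_option backward.isDefEq.respectTransparency.types false

universe u

open CategoryTheory CategoryTheory.Limits AlgebraicGeometry Opposite MonoidalCategory CartesianMonoidalCategory MonObj

namespace GrothLib.AlgSt.Neut

open _root_.AlgSt GrothLib.FibCat GrothLib.Stk GrothLib.SpQuot

variable {S : Scheme.{u}} {U : AlgSp.Sp S} {𝒳 : _root_.AlgSt.Cat S} {x : ofSp U ⥤ᵇ 𝒳}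
  (hst : _root_.Stk.IsStack (AlgSp.J S) 𝒳) (r : Retr x)

/-- The morphism of points under a morphism of values. -/
abbrev under {o' o : (ofSp U).obj} (κ : x.obj o' ⟶ x.obj o) : o' ⟶ o :=
  ⟨eqToHom (x.w_obj o').symm ≫ 𝒳.p.map κ ≫ eqToHom (x.w_obj o), by
    have h := r.eq_of_hom κ
    rw [r.sec_x] at h
    refine Eq.trans ?_ h
    exact (map_map_sec _ _ _ (Category.assoc _ _ _) _).symm⟩

theorem p_map_under {o' o : (ofSp U).obj} (κ : x.obj o' ⟶ x.obj o) :
    𝒳.p.map (x.map (under r κ)) = 𝒳.p.map κ := by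
  refine (p_map_x x _).trans ?_
  simp

theorem under_comp {o'' o' o : (ofSp U).obj} (k : o'' ⟶ o') (κ : x.obj o' ⟶ x.obj o) :
    under r (x.map k ≫ κ) = k ≫ under r κ := by
  refine Stk.EltObj.hom_ext ?_
  simp [under, p_map_x]

/-- The automorphism by which a morphism of values differs from the one induced by the points. -/
noncomputable def autOf {o' o : (ofSp U).obj} (κ : x.obj o' ⟶ x.obj o) : Gerb.AutO (x.obj o') :=
  (existsUnique_aut hst.1 (x.map (under r κ)) κ (p_map_under r κ).symm).exists.choose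

theorem autOf_spec {o' o : (ofSp U).obj} (κ : x.obj o' ⟶ x.obj o) :
    Band.val (autOf hst r κ)⁻¹ ≫ x.map (under r κ) = κ :=
  (existsUnique_aut hst.1 (x.map (under r κ)) κ (p_map_under r κ).symm).exists.choose_spec

theorem autOf_unique {o' o : (ofSp U).obj} (κ : x.obj o' ⟶ x.obj o) (α : Gerb.AutO (x.obj o'))
    (h : Band.val α⁻¹ ≫ x.map (under r κ) = κ) : α = autOf hst r κ :=
  (existsUnique_aut hst.1 (x.map (under r κ)) κ (p_map_under r κ).symm).unique h (autOf_spec hst r κ)

theorem autOf_natural {o'' o' o : (ofSp U).obj} (k : o'' ⟶ o') (κ : x.obj o' ⟶ x.obj o) :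
    autOf hst r (x.map k ≫ κ) = Band.pull hst.1 (x.map k) (autOf hst r κ) := by
  refine (autOf_unique hst r _ _ ?_).symm
  rw [under_comp, x.map_comp, ← map_inv, ← Category.assoc, comm_val (hst := hst), Category.assoc, autOf_spec]

theorem autOf_mul {o' o : (ofSp U).obj} (β : Gerb.AutO (x.obj o')) (κ : x.obj o' ⟶ x.obj o) :
    autOf hst r (Band.val β⁻¹ ≫ κ) = β * autOf hst r κ := by
  refine (autOf_unique hst r _ _ ?_).symm
  have e : under r (Band.val β⁻¹ ≫ κ) = under r κ := by
    refine Stk.EltObj.hom_ext ?_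
    simp [under, Band.map_val]
  rw [e, mul_inv_rev, Band.val_mul, Category.assoc, autOf_spec]

/-- The point of the automorphisms over the morphisms into a value. -/
noncomputable def autOfPt (o : (ofSp U).obj) : homP (x := x) hst (x.obj o) ⟶ autG x hst :=
  gMk (fun W z => autOf hst r (hEl (𝟙 (homP (x := x) hst (x.obj o))) W z)) (fun {W W'} g z k hk => by
    rw [← autOf_natural, hEl_natural (𝟙 (homP (x := x) hst (x.obj o))) g z k hk])

theorem gEl_comp_autOfPt {Z : Over U} (o : (ofSp U).obj) (q : Z ⟶ homP (x := x) hst (x.obj o))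
    (W : Over S) (z : Z.left.obj.obj (op W)) :
    gEl (q ≫ autOfPt hst r o) W z = autOf hst r (hEl q W z) := by
  conv_rhs => rw [← Category.comp_id q, hEl_comp]
  rw [gEl_comp, autOfPt, gEl_gMk, autOf_natural]

theorem locSurjObj_toBG (hx : IsLocVal x) : Gerb.LocSurjObj (AlgSp.J S) (toBG hst r hx) := by
  intro A
  refine ⟨secSieve A.π.left, SpQuot.secSieve_mem A, fun W f hf => ?_⟩
  obtain ⟨s, hs⟩ := hf
  change W ⟶ A.base at f
  let o : (ofSp U).obj := ⟨W, (AlgSp.J S).uliftYonedaEquiv ((AlgSp.yon S).map f ≫ A.b)⟩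
  let g : 𝒳.p.obj (x.obj o) ⟶ A.base := eqToHom (x.w_obj o) ≫ f
  have hb : (AlgSp.yon S).map g ≫ A.b = baseHom r (x.obj o) := by
    apply (AlgSp.J S).uliftYonedaEquiv.injective
    rw [baseHom, Equiv.apply_symm_apply, r.sec_x, Functor.map_comp, Category.assoc, GrothLib.SpQuot.sec_comp]
    rfl
  let s₀ : Over.mk (baseHom r (x.obj o)) ⟶ A.P := Over.homMk ((AlgSp.yon S).map (eqToHom (x.w_obj o)) ≫ s) (by
    change ((AlgSp.yon S).map (eqToHom (x.w_obj o)) ≫ s) ≫ A.P.hom = baseHom r (x.obj o)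
    rw [← Over.w A.π, Category.assoc, reassoc_of% hs, ← Category.assoc, ← Functor.map_comp]
    exact hb)
  let s' : homP (x := x) hst (x.obj o) ⟶ A.P := piP hst r (x.obj o) ≫ s₀
  let top : homP (x := x) hst (x.obj o) ⟶ A.P := gm A.act (autOfPt hst r o) s'
  let ψ : (toBG hst r hx).obj (x.obj o) ⟶ A := SpQuot.mkHom (A := torsor hst r hx (x.obj o)) (A' := A) g hb top (by
    have h1 : top ≫ A.π = s' ≫ A.π := gm_π A.act A.cart _ _
    refine (congrArg CommaMorphism.left h1).trans ?_
    change ((piP hst r (x.obj o)).left ≫ (AlgSp.yon S).map (eqToHom (x.w_obj o)) ≫ s) ≫ A.π.left =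
      (piP hst r (x.obj o)).left ≫ (AlgSp.yon S).map g
    rw [Category.assoc, Category.assoc, hs, ← Functor.map_comp]) (eqv_of_gm _ fun V β h p => by
      change gm (actP hst (x.obj o)) h p ≫ gm A.act (autOfPt hst r o) s' = gm A.act h (p ≫ gm A.act (autOfPt hst r o) s')
      rw [gm_actP, comp_gm, comp_gm, gm_gm]
      congr 1
      · refine gEl_ext fun W z => ?_
        rw [gEl_comp_autOfPt, hEl_gmPt, gEl_mul, gEl_comp_autOfPt, autOf_mul]
      · simp only [s', ← Category.assoc, gmPt_piP]) (toUnit_unique _ _)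
  refine ⟨x.obj o, ψ, ?_⟩
  rw [SpQuot.isHomLift_iff f ψ (x.w_obj o) rfl]
  exact Category.comp_id _

end GrothLib.AlgSt.Neut
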