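import Groth.Agent.Lib.AlgSt.Gerbe.Neut.LocSurj
import Groth.Agent.Lib.AlgSt.Gerbe.Neut.AutSpace
import Groth.Agent.Lib.Stk.LocEquiv
import Groth.Agent.Lib.Stk.Psh
import Groth.Agent.Lib.SpQuot.Stack
import Groth.Prelude.Def_W4stkstmgerbesQuotBase

/-!
# A gerbe over a space with a section is a classifying stack
-/

set_option backward.isDefEq.respectTransparency false
set_option backward.isDefEq.respectTransparency.types false

universe u

open CategoryTheory CategoryTheory.Limits AlgebraicGeometry Opposite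

namespace GrothLib.AlgSt.Neut

open _root_.AlgSt GrothLib.FibCat GrothLib.AlgSt

variable {S : Scheme.{u}} {𝒳 : _root_.AlgSt.Cat S}

/-- The points under the objects of a category over a space with a section. -/
noncomputable def retrOfSection {U : AlgSp.Sp S} (π : 𝒳 ⥤ᵇ ofSp U) (x : ofSp U ⥤ᵇ 𝒳)
    (ex : BasedFunctor.comp x π ≅ BasedFunctor.id (ofSp U)) : Retr x where
  sec a := GrothLib.Stk.psec π a
  map_sec φ := GrothLib.Stk.psec_map π φ
  sec_x o := by
    have h := GrothLib.Stk.psec_eq_of_hom ex.hom o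
    have h1 : GrothLib.Stk.psec (BasedFunctor.comp x π) o =
        U.obj.map (eqToHom (x.w_obj o).symm).op (GrothLib.Stk.psec π (x.obj o)) :=
      (map_map_sec _ _ _ (eqToHom_trans _ _) _).symm
    rw [h1] at h
    have h2 : GrothLib.Stk.psec (BasedFunctor.id (ofSp U)) o = o.sec := Functor.map_id_apply U.obj _ _
    rw [h2] at h
    have h3 := congrArg (fun t => U.obj.map (eqToHom (x.w_obj o)).op t) h
    refine Eq.trans ?_ h3
    exact ((map_map_sec _ _ (𝟙 _) ((eqToHom_trans _ _).trans (eqToHom_refl _ _)) _).trans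
      (Functor.map_id_apply U.obj _ _)).symm

/-- A gerbe over a space with a section is the classifying stack of the automorphism sheaf of the section. -/
theorem exists_spBG (h𝒳 : IsAlgStack Scheme.fppfPrecoverage 𝒳) (U : AlgSp.Space S) (π : 𝒳 ⥤ᵇ ofSp U.obj)
    (hπ : Gerb.IsGerbeOver (AlgSp.J S) π) (x : ofSp U.obj ⥤ᵇ 𝒳)
    (ex : BasedFunctor.comp x π ≅ BasedFunctor.id (ofSp U.obj)) :
    ∃ (G : Over U.obj) (_ : GrpObj G),
      AlgSp.IsAlgSpace G.left ∧ AlgSp.LocP @Flat G.hom ∧ AlgSp.LocP @LocallyOfFinitePresentation G.hom ∧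
      ∃ e : SpBG Scheme.fppfPrecoverage G ⥤ᵇ 𝒳,
        _root_.FibCat.IsEquivOver e ∧
        Nonempty (BasedFunctor.comp e π ≅
          W4stkstmgerbes.spQuotToBase Scheme.fppfPrecoverage G (trivGAction G)) := by
  have hst : _root_.Stk.IsStack (AlgSp.J S) 𝒳 := h𝒳.isStack
  let r := retrOfSection π x ex
  have hsec := Section.locSec_of_gerbe hst.1 π hπ x ex
  have hx : IsLocVal x := hsec.loc
  have hE := isEquivOver_autToFp x hst r
  have hU : RepByAlgSp (ofSp U.obj) := repByAlgSp_ofSp U.property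
  have hGs : RepByAlgSp (ofSp (autG x hst).left) := repByAlgSp_of_isEquivOver' _ hE
    (repByAlgSp_fp_of_repByAlgSp1 (isFibGrpd_ofSp U.obj) hst.1 x x (Section.repByAlgSp1_of_space h𝒳 x) hU)
  have hGalg : AlgSp.IsAlgSpace (autG x hst).left := by
    obtain ⟨F, e₀, he₀⟩ := hGs
    have : IsIso (pshHom e₀) := isIso_pshHom he₀
    exact F.property.of_iso ((fullyFaithfulSheafToPresheaf _ _).preimageIso (asIso (pshHom e₀)))
  obtain ⟨hfl, hfp, -⟩ := Section.locSec_props h𝒳 hsec
  have key : ∀ {Q : MorphismProperty Scheme.{u}}, GrothLib.AlgSp.EtLocal Q →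
      RepByAlgSpWith (AlgSp.LocP Q) x → AlgSp.LocP Q (autG x hst).hom := fun {Q} hQ h => by
    have := hQ.baseChange
    have : Q.IsStableUnderComposition := ⟨fun f g hf hg => hQ.comp_mem f g hf hg⟩
    exact mem_of_repByAlgSpWith_ofSpMap isoInvariant_locP (detectedBySchemes_locP (fun _ _ t ht => hQ.of_etale t ht)) hGalg U.property _
      (show RepByAlgSpWith (AlgSp.LocP Q) (ofSpMap (autG x hst).hom) from
        repByAlgSpWith_equiv_comp _ hE (repByAlgSpWith_fpFst x h))
  refine ⟨autG x hst, grpAutG x hst, hGalg, key GrothLib.AlgSp.EtLocal.flat hfl, key GrothLib.AlgSp.EtLocal.lfp hfp, ?_⟩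
  have := toBG_faithful (hst := hst) r hx
  have := toBG_full (hst := hst) r hx
  have hF := GrothLib.Stk.isEquivOver_of_locSurjObj (toBG hst r hx) hst GrothLib.SpQuot.isStack
    (locSurjObj_toBG hst r hx)
  have hFb : Nonempty (BasedFunctor.comp (toBG hst r hx)
      (W4stkstmgerbes.spQuotToBase Scheme.fppfPrecoverage (autG x hst) (trivGAction (autG x hst))) ≅ π) :=
    ⟨GrothLib.Stk.isoOfPsecEq fun a => by
      refine (Functor.map_id_apply U.obj.obj _ _).trans ?_
      change ((AlgSp.J S).uliftYonedaEquiv (F := U.obj)) (torsor hst r hx a).b = _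
      exact baseSec_torsor r hx a⟩
  obtain ⟨e, he, -, ⟨ε⟩⟩ := IsEquivOver.symm hF
  obtain ⟨β⟩ := hFb
  exact ⟨e, he, ⟨whiskerLeftIso e β.symm ≪≫ (whiskerRightIso ε
    (W4stkstmgerbes.spQuotToBase Scheme.fppfPrecoverage (autG x hst) (trivGAction (autG x hst))))⟩⟩

end GrothLib.AlgSt.Neut
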