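import Groth.Agent.Lib.AlgSt.Gerbe.Neut.Main
import Groth.Agent.Lib.AlgSt.Gerbe.Props
import Groth.Agent.Lib.SpQuot.Atlas
import Groth.Agent.Lib.AlgSt.DescLocQ

/-!
# Relative gerbes are locally classifying stacks
-/

set_option backward.isDefEq.respectTransparency false
set_option backward.isDefEq.respectTransparency.types false

universe u

open CategoryTheory CategoryTheory.Limits MonoidalCategory CartesianMonoidalCategory AlgebraicGeometry Opposite

namespace GrothLib.AlgSt.Neut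

open _root_.AlgSt GrothLib.FibCat GrothLib.AlgSt GrothLib.SpQuot

variable {S : Scheme.{u}}

/-- Being a gerbe depends only on the isomorphism class of the functor. -/
theorem isGerbeOver_congr {C : Type*} [Category C] {J : GrothendieckTopology C} {𝒜 : BasedCategory C}
    {ℬ : BasedCategory C} {F F' : 𝒜 ⥤ᵇ ℬ} (α : F ≅ F') (h : Gerb.IsGerbeOver J F) : Gerb.IsGerbeOver J F' := by
  constructor
  · intro y
    obtain ⟨R, hR, hl⟩ := h.1 y
    refine ⟨R, hR, fun V f hf => ?_⟩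
    obtain ⟨x, g, hg⟩ := hl f hf
    have : ℬ.p.IsHomLift (𝟙 V) (α.inv.toNatTrans.app x) :=
      BasedNatTrans.isHomLift α.inv ((F.w_obj x).symm.trans (IsHomLift.domain_eq ℬ.p f g))
    exact ⟨x, α.inv.toNatTrans.app x ≫ g, IsHomLift.comp_lift_id_left' ℬ.p V _ f g⟩
  · intro x x' b hb
    have hx' : ℬ.p.obj (F'.obj x') = 𝒜.p.obj x := IsHomLift.codomain_eq ℬ.p (𝟙 (𝒜.p.obj x)) b
    have : ℬ.p.IsHomLift (𝟙 (𝒜.p.obj x)) (α.hom.toNatTrans.app x) := BasedNatTrans.isHomLift α.hom rfl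
    have : ℬ.p.IsHomLift (𝟙 (𝒜.p.obj x)) (α.inv.toNatTrans.app x') :=
      BasedNatTrans.isHomLift α.inv ((F'.w_obj x').symm.trans hx')
    obtain ⟨R, hR, hl⟩ := h.2 x x' (α.hom.toNatTrans.app x ≫ b ≫ α.inv.toNatTrans.app x') (by
      have := hb
      exact IsHomLift.comp_lift_id_left' ℬ.p (𝒜.p.obj x) _ (𝟙 _) _)
    refine ⟨R, hR, fun V f hf => ?_⟩
    obtain ⟨x₀, φ, ψ, hφ, hψ, e⟩ := hl f hf
    refine ⟨x₀, φ, ψ, hφ, hψ, ?_⟩
    have n1 := α.inv.toNatTrans.naturality φ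
    have n2 := α.inv.toNatTrans.naturality ψ
    have i1 : α.inv.toNatTrans.app x ≫ α.hom.toNatTrans.app x = 𝟙 _ :=
      congrArg (fun t => t.toNatTrans.app x) α.inv_hom_id
    have i2 : α.inv.toNatTrans.app x' ≫ α.hom.toNatTrans.app x' = 𝟙 _ :=
      congrArg (fun t => t.toNatTrans.app x') α.inv_hom_id
    calc F'.map φ ≫ b = (F'.map φ ≫ α.inv.toNatTrans.app x) ≫ (α.hom.toNatTrans.app x ≫ b ≫ α.inv.toNatTrans.app x') ≫
          α.hom.toNatTrans.app x' := by
          simp only [Category.assoc, i2, Category.comp_id]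
          rw [← Category.assoc (α.inv.toNatTrans.app x), i1, Category.id_comp]
      _ = α.inv.toNatTrans.app x₀ ≫ (F.map ψ) ≫ α.hom.toNatTrans.app x' := by
          rw [n1, Category.assoc, ← reassoc_of% e]
          simp only [Category.assoc]
      _ = F'.map ψ := by
          rw [← Category.assoc, ← n2, Category.assoc, i2, Category.comp_id]

/-- A classifying stack is a gerbe over its base. -/
theorem isGerbeOver_spQuotToBase {B : AlgSp.Sp S} (G : Over B) [GrpObj G] :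
    Gerb.IsGerbeOver (AlgSp.J S) (W4stkstmgerbes.spQuotToBase Scheme.fppfPrecoverage G (trivGAction G)) := by
  constructor
  · intro y
    refine ⟨⊤, (AlgSp.J S).top_mem _, fun V f _ => ?_⟩
    change V ⟶ y.base at f
    let a : (ofSp (𝟙_ (Over B)).left).obj := resObj y f
    have hsec : B.obj.map f.op y.sec = (AlgSp.J S).uliftYonedaEquiv (secYon (X := 𝟙_ (Over B)) a ≫ (𝟙_ (Over B)).hom) :=
      ((congrArg (AlgSp.J S).uliftYonedaEquiv (Category.comp_id (secYon (X := 𝟙_ (Over B)) a))).trans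
        (Equiv.apply_symm_apply _ _)).symm
    let m : (W4stkstmgerbes.spQuotToBase Scheme.fppfPrecoverage G (trivGAction G)).obj
        ((spQuotMap Scheme.fppfPrecoverage G (trivGAction G)).obj a) ⟶ y := ⟨f, hsec⟩
    exact ⟨_, m, IsHomLift.map (ofSp B).p m⟩
  · intro A A' b hb
    let χ : A.base ⟶ A'.base := b.hom
    have hb' : (ofSp B).p.IsHomLift (𝟙 A.base) b := hb
    have hχ : (AlgSp.yon S).map χ ≫ A'.b = A.b := by
      apply (AlgSp.J S).uliftYonedaEquiv.injective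
      rw [GrothLib.SpQuot.sec_comp]
      exact b.map_sec
    have hχ1 : χ = eqToHom (IsHomLift.codomain_eq (ofSp B).p (𝟙 A.base) b).symm := by
      have := IsHomLift.fac' (ofSp B).p (𝟙 A.base) b
      simpa using this
    refine ⟨secSieve A.π.left ⊓ (secSieve A'.π.left).pullback χ, (AlgSp.J S).intersection_covering
      (SpQuot.secSieve_mem A) ((AlgSp.J S).pullback_stable _ (SpQuot.secSieve_mem A')), fun W f hf => ?_⟩
    obtain ⟨⟨s, hs⟩, ⟨s', hs'⟩⟩ := hf
    let a : (ofSp A.P.left).obj := ⟨W, (AlgSp.J S).uliftYonedaEquiv s⟩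
    let a' : (ofSp A'.P.left).obj := ⟨W, (AlgSp.J S).uliftYonedaEquiv s'⟩
    have hp : ptX A a = s := Equiv.symm_apply_apply _ _
    have hp' : ptX A' a' = s' := Equiv.symm_apply_apply _ _
    have harr : arrT A a = f := (AlgSp.yon S).map_injective (((AlgSp.yon S).map_preimage _).trans (by rw [hp]; exact hs))
    have harr' : arrT A' a' = f ≫ χ := (AlgSp.yon S).map_injective (((AlgSp.yon S).map_preimage _).trans (by rw [hp']; exact hs'))
    have hsy : secYon (imgX A a) = secYon (imgX A' a') := by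
      rw [secYon_imgX, secYon_imgX, hp, hp']
      have e : s ≫ A.P.hom = s' ≫ A'.P.hom := by
        rw [← Over.w A.π, ← Over.w A'.π, reassoc_of% hs, reassoc_of% hs', Functor.map_comp, Category.assoc]
        exact congrArg ((AlgSp.yon S).map f ≫ ·) hχ.symm
      have t1 : A.φ.left ≫ (𝟙_ (Over B)).hom = A.P.hom := Over.w A.φ
      have t2 : A'.φ.left ≫ (𝟙_ (Over B)).hom = A'.P.hom := Over.w A'.φ
      rw [← t1, ← t2] at e
      simpa using e
    have himg : imgX A a = imgX A' a' :=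
      congrArg (Stk.EltObj.mk W) ((AlgSp.J S).uliftYonedaEquiv.symm.injective hsy)
    refine ⟨(spQuotMap Scheme.fppfPrecoverage G (trivGAction G)).obj (imgX A a), orbitHom A a,
      (spQuotMap Scheme.fppfPrecoverage G (trivGAction G)).map (eqToHom himg) ≫ orbitHom A' a', ?_, ?_, ?_⟩
    · rw [SpQuot.isHomLift_iff f _ rfl rfl]
      change arrT A a ≫ eqToHom rfl = eqToHom rfl ≫ f
      rw [eqToHom_refl, eqToHom_refl]
      exact (Category.comp_id _).trans (harr.trans (Category.id_comp f).symm)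
    · rw [SpQuot.isHomLift_iff f _ rfl (IsHomLift.codomain_eq (ofSp B).p (𝟙 A.base) b)]
      change ((spQuotMap Scheme.fppfPrecoverage G (trivGAction G)).map (eqToHom himg)).base ≫ arrT A' a' ≫ eqToHom _ = 𝟙 _ ≫ f
      rw [harr', hχ1]
      change (eqToHom himg).hom ≫ _ = _
      rw [eltObj_eqToHom_hom]
      simp
    · refine Stk.EltObj.hom_ext ?_
      change arrT A a ≫ χ = (eqToHom himg).hom ≫ arrT A' a'
      rw [harr, harr', eltObj_eqToHom_hom]
      simp

/-- A morphism of algebraic stacks is a gerbe iff it is a classifying stack after an fppf base change to a space. -/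
theorem isGerbeOver_iff_fp_spBG {𝒳 𝒴 : _root_.AlgSt.Cat S} (h𝒳 : IsAlgStack Scheme.fppfPrecoverage 𝒳)
    (h𝒴 : IsAlgStack Scheme.fppfPrecoverage 𝒴) (π : 𝒳 ⥤ᵇ 𝒴) :
    Gerb.IsGerbeOver (AlgSp.J S) π ↔
      ∃ (U : AlgSp.Space S) (G : Over U.obj) (_ : GrpObj G),
        AlgSp.IsAlgSpace G.left ∧ AlgSp.LocP @Flat G.hom ∧ AlgSp.LocP @LocallyOfFinitePresentation G.hom ∧
        ∃ u : ofSp U.obj ⥤ᵇ 𝒴,
          RepByAlgSpWith (AlgSp.LocP @Flat) u ∧
          RepByAlgSpWith (AlgSp.LocP @LocallyOfFinitePresentation) u ∧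
          RepByAlgSpWith AlgSp.IsSurjectiveMor u ∧
          ∃ e : SpBG Scheme.fppfPrecoverage G ⥤ᵇ _root_.FibCat.fp u π,
            _root_.FibCat.IsEquivOver e ∧
            Nonempty (BasedFunctor.comp e (_root_.FibCat.fpFst u π) ≅
              W4stkstmgerbes.spQuotToBase Scheme.fppfPrecoverage G (trivGAction G)) := by
  constructor
  · intro hπ
    obtain ⟨W, w, hw, hws⟩ := h𝒳.atlas
    let U : AlgSp.Space S := ⟨(AlgSp.yon S).obj W, AlgSp.IsAlgSpace.yon_obj W⟩
    let l : ofSp U.obj ⥤ᵇ 𝒳 := BasedFunctor.comp (toOverCat W) w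
    let u : ofSp U.obj ⥤ᵇ 𝒴 := BasedFunctor.comp l π
    have hU : IsAlgStack Scheme.fppfPrecoverage (ofSp U.obj) := (isDM_of_repByAlgSp (repByAlgSp_ofSp U.property)).1
    have hl : RepByAlgSpWith (AlgSp.LocP @Smooth) l := repByAlgSpWith_equiv_comp _ (isEquivOver_toOverCat W) hw
    have hls : RepByAlgSpWith AlgSp.IsSurjectiveMor l := repByAlgSpWith_equiv_comp _ (isEquivOver_toOverCat W) hws
    have hl₁ : RepByAlgSp1 l := Section.repByAlgSp1_of_space h𝒳 l
    have hu₁ : RepByAlgSp1 u := Section.repByAlgSp1_of_space h𝒴 u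
    obtain ⟨hπf, hπp, -⟩ := Section.locQ_props h𝒳 h𝒴 π hπ
    have hlf : RepByAlgSpWith (AlgSp.LocP @Flat) l := repByAlgSpWith_mono (fun _ _ _ _ _ h =>
      GrothLib.AlgSp.locP_mono (P := @Smooth) (Q := @Flat) (fun _ _ c (_ : Smooth c) => inferInstance) h) hl
    have hlp : RepByAlgSpWith (AlgSp.LocP @LocallyOfFinitePresentation) l := repByAlgSpWith_mono (fun _ _ _ _ _ h =>
      GrothLib.AlgSp.locP_mono (P := @Smooth) (Q := @LocallyOfFinitePresentation) (fun _ _ c (_ : Smooth c) => inferInstance) h) hl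
    have huf : LocQ (AlgSp.LocP @Flat) u := locQ_comp GrothLib.AlgSp.isSmoothLocalST_flat
      (fun _ _ _ a b c f g h h' => GrothLib.AlgSp.EtLocal.flat.locP_comp a b c h h')
      hU.isStack.1 (locQ_of_repByAlgSpWith GrothLib.AlgSp.isSmoothLocalST_flat h𝒳 hlf) hπf
    have hup : LocQ (AlgSp.LocP @LocallyOfFinitePresentation) u := locQ_comp GrothLib.AlgSp.isSmoothLocalST_lfp
      (fun _ _ _ a b c f g h h' => GrothLib.AlgSp.EtLocal.lfp.locP_comp a b c h h')
      hU.isStack.1 (locQ_of_repByAlgSpWith GrothLib.AlgSp.isSmoothLocalST_lfp h𝒳 hlp) hπp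
    have hus : IsSurjective u := fun q => by
      obtain ⟨p, hp⟩ := Section.isSurjective_of_gerbe π hπ.1 q
      obtain ⟨p', hp'⟩ := (isSurjective_iff_repByAlgSpWith (isFibGrpd_ofSp U.obj) h𝒳.isStack.1 l hl₁).2 hls p
      exact ⟨p', by rw [← hp, ← hp', points_map_comp]⟩
    have := GrothLib.AlgSp.descendsAlong_flat_fpqc.{u}
    have h𝒲 : IsAlgStack Scheme.fppfPrecoverage (_root_.FibCat.fp u π) :=
      isAlgStack_fp h𝒴.isStack h𝒴.diag hU h𝒳 u π
    have hg : Gerb.IsGerbeOver (AlgSp.J S) (_root_.FibCat.fpFst u π) :=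
      GrothLib.Stk.Gerbe.isGerbeOver_fpFst π u h𝒴.isStack.1 (isFibGrpd_ofSp U.obj) hπ
    obtain ⟨G, iG, hGa, hGf, hGp, e, he, hc⟩ := exists_spBG h𝒲 U (_root_.FibCat.fpFst u π) hg
      (_root_.FibCat.fpLift (F := u) (G := π) (BasedFunctor.id _) l (Iso.refl _)) (Iso.refl _)
    exact ⟨U, G, iG, hGa, hGf, hGp, u,
      repByAlgSpWith_of_locQ GrothLib.AlgSp.isSmoothLocalST_flat (stableSp_locP GrothLib.AlgSp.EtLocal.flat)
        (GrothLib.SpQuot.isLocalOnBase_fppf_locP GrothLib.AlgSp.EtLocal.flat) hU h𝒴 hu₁ huf,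
      repByAlgSpWith_of_locQ GrothLib.AlgSp.isSmoothLocalST_lfp (stableSp_locP GrothLib.AlgSp.EtLocal.lfp)
        isLocalOnBase_fppf_locP_lfp hU h𝒴 hu₁ hup,
      (isSurjective_iff_repByAlgSpWith (isFibGrpd_ofSp U.obj) h𝒴.isStack.1 u hu₁).1 hus, e, he, hc⟩
  · rintro ⟨U, G, _, -, -, -, u, huf, hup, hus, e, he, ⟨c⟩⟩
    have hU : IsAlgStack Scheme.fppfPrecoverage (ofSp U.obj) := (isDM_of_repByAlgSp (repByAlgSp_ofSp U.property)).1
    have hu₁ : RepByAlgSp1 u := Section.repByAlgSp1_of_space h𝒴 u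
    have h1 := isGerbeOver_congr c.symm (isGerbeOver_spQuotToBase G)
    have h2 : Gerb.IsGerbeOver (AlgSp.J S) (_root_.FibCat.fpFst u π) :=
      GrothLib.Stk.Gerbe.isGerbeOver_of_comp_isEquivOver e he _ h1
    exact isGerbeOver_of_fpFst_of_liftsFppf h𝒳.isStack.1 h𝒴.isStack.1 hU.isStack.1
      (liftsFppf_of_locQ_surjective h𝒴 hU u (locQ_of_repByAlgSpWith GrothLib.AlgSp.isSmoothLocalST_flat h𝒴 huf)
        (locQ_of_repByAlgSpWith GrothLib.AlgSp.isSmoothLocalST_lfp h𝒴 hup)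
        ((isSurjective_iff_repByAlgSpWith (isFibGrpd_ofSp U.obj) h𝒴.isStack.1 u hu₁).2 hus)) h2

end GrothLib.AlgSt.Neut
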