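import Groth.Agent.Lib.SpQuot.Glue
import Groth.Agent.Lib.Stk.Descent
import Groth.Agent.Lib.AlgSt.Setoid
import Groth.Prelude.Def_AlgSt2

/-!
# Sheaves over a space given by their fibres over its points
-/

set_option backward.isDefEq.respectTransparency false
set_option backward.isDefEq.respectTransparency.types false

universe u

open CategoryTheory CategoryTheory.Limits AlgebraicGeometry Opposite

namespace GrothLib.AlgSt.Neut

open _root_.AlgSt GrothLib.FibCat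

variable {S : Scheme.{u}} {U : AlgSp.Sp S}

/-- The restriction of a point. -/
abbrev resObj (o : (ofSp U).obj) {V : Over S} (f : V ⟶ o.base) : (ofSp U).obj := ⟨V, U.obj.map f.op o.sec⟩

/-- The morphism from a restricted point. -/
abbrev resHom (o : (ofSp U).obj) {V : Over S} (f : V ⟶ o.base) : resObj o f ⟶ o := ⟨f, rfl⟩

theorem exists_resIso {o o' : (ofSp U).obj} (m : o' ⟶ o) {V : Over S} (h : o'.base = V) :
    ∃ (e : o' = resObj o (eqToHom h.symm ≫ m.hom)), eqToHom e ≫ resHom o _ = m := by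
  obtain ⟨T, s⟩ := o'
  obtain rfl : T = V := h
  have e : (⟨T, s⟩ : (ofSp U).obj) = resObj o (eqToHom rfl ≫ m.hom) := by
    simp only [resObj, eqToHom_refl, Category.id_comp, m.map_sec]
  refine ⟨e, Stk.EltObj.hom_ext ?_⟩
  simp [eltObj_eqToHom_hom]

variable (E : ((ofSp U).obj)ᵒᵖ ⥤ Type u)

/-- Elements are equal when they agree along the identification of their points. -/
theorem sigma_ext {T : Over S} {p q : Σ v : U.obj.obj (op T), E.obj (op (⟨T, v⟩ : (ofSp U).obj))}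
    (h : p.1 = q.1) (h2 : E.map (eqToHom (congrArg (fun v => (⟨T, v⟩ : (ofSp U).obj)) h)).op q.2 = p.2) : p = q := by
  obtain ⟨v, e⟩ := p
  obtain ⟨v', e'⟩ := q
  obtain rfl : v = v' := h
  simp only [eqToHom_refl, op_id, Functor.map_id_apply] at h2
  subst h2
  rfl

/-- Equal morphisms act equally. -/
theorem map_congr {a b : (ofSp U).obj} (f g : a ⟶ b) (h : f.hom = g.hom) (e : E.obj (op b)) :
    E.map f.op e = E.map g.op e := by
  rw [Stk.EltObj.hom_ext h]

theorem map_map {a b c : (ofSp U).obj} (f : a ⟶ b) (g : b ⟶ c) (e : E.obj (op c)) :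
    E.map f.op (E.map g.op e) = E.map (f ≫ g).op e := by
  rw [op_comp, Functor.map_comp_apply]

theorem map_tri {a b c d : (ofSp U).obj} (w : a ⟶ b) (g : b ⟶ c) (f : c ⟶ d) (k : a ⟶ d)
    (h : w.hom ≫ g.hom ≫ f.hom = k.hom) (e : E.obj (op d)) : E.map w.op (E.map g.op (E.map f.op e)) = E.map k.op e := by
  rw [map_map, map_map]
  exact map_congr E _ _ (by simpa [Stk.EltObj.comp_hom] using h) e

/-- The presheaf of pairs of a point and an element of the fibre over it. -/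
def sigmaPsh : (Over S)ᵒᵖ ⥤ Type (u + 1) where
  obj T := Σ v : U.obj.obj T, E.obj (op (⟨T.unop, v⟩ : (ofSp U).obj))
  map {T T'} f := TypeCat.ofHom fun p =>
    ⟨U.obj.map f p.1, E.map (Quiver.Hom.op (⟨f.unop, rfl⟩ : (⟨T'.unop, U.obj.map f p.1⟩ : (ofSp U).obj) ⟶ ⟨T.unop, p.1⟩)) p.2⟩
  map_id T := by
    refine ConcreteCategory.hom_ext _ _ fun p => ?_
    refine sigma_ext E (T := T.unop) (Functor.map_id_apply U.obj _ p.1) ?_
    refine map_congr E _ _ ?_ p.2
    rw [eltObj_eqToHom_hom]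
    rfl
  map_comp {T T' T''} f g := by
    refine ConcreteCategory.hom_ext _ _ fun p => ?_
    refine sigma_ext E (T := T''.unop) ?_ ?_
    · exact Functor.map_comp_apply U.obj f g p.1
    refine map_tri E _ _ _ _ ?_ p.2
    rw [eltObj_eqToHom_hom]
    exact Category.id_comp _

variable {E}

/-- Gluing in the fibres along covering sieves. -/
def Glues (E : ((ofSp U).obj)ᵒᵖ ⥤ Type u) : Prop :=
  ∀ (o : (ofSp U).obj) (R : Sieve o.base), R ∈ AlgSp.J S o.base →
    ∀ e : ∀ {o' : (ofSp U).obj} (m : o' ⟶ o), R.arrows m.hom → E.obj (op o'),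
      (∀ {o'' o' : (ofSp U).obj} (l : o'' ⟶ o') (m : o' ⟶ o) (h : R.arrows m.hom) (h' : R.arrows (l ≫ m).hom),
        E.map l.op (e m h) = e (l ≫ m) h') →
      ∃! e₀ : E.obj (op o), ∀ {o' : (ofSp U).obj} (m : o' ⟶ o) (h : R.arrows m.hom), E.map m.op e₀ = e m h

theorem sigma_fst_map {T T' : Over S} (f : T' ⟶ T) (p : (sigmaPsh E).obj (op T)) :
    ((sigmaPsh E).map f.op p).1 = U.obj.map f.op p.1 := rfl

theorem sigma_eq_map {T T' : Over S} (f : T' ⟶ T) (p : (sigmaPsh E).obj (op T)) {q : (sigmaPsh E).obj (op T')}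
    (hp : (sigmaPsh E).map f.op p = q) (k : (⟨T', q.1⟩ : (ofSp U).obj) ⟶ ⟨T, p.1⟩) (hk : k.hom = f) :
    q.2 = E.map k.op p.2 := by
  subst hp
  exact map_congr E _ _ hk.symm p.2

theorem map_two {a b b' c : (ofSp U).obj} (w : a ⟶ b) (g : b ⟶ c) (w' : a ⟶ b') (g' : b' ⟶ c)
    (h : w.hom ≫ g.hom = w'.hom ≫ g'.hom) (e : E.obj (op c)) :
    E.map w.op (E.map g.op e) = E.map w'.op (E.map g'.op e) := by
  rw [map_map, map_map]
  exact map_congr E _ _ h e

theorem isSheaf_sigmaPsh (hE : Glues E) : Presheaf.IsSheaf (AlgSp.J S) (sigmaPsh E) := by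
  rw [isSheaf_iff_isSheaf_of_type]
  intro T R hR x hx
  have hU := (isSheaf_iff_isSheaf_of_type _ _).1 U.property R hR
  let xu : Presieve.FamilyOfElements U.obj R.arrows := fun V f hf => (x f hf).1
  have hxu : xu.Compatible := fun Y₁ Y₂ Z g₁ g₂ f₁ f₂ h₁ h₂ w => congrArg Sigma.fst (hx g₁ g₂ h₁ h₂ w)
  obtain ⟨u, hu, huu⟩ := hU xu hxu
  have hobj : ∀ {o' : (ofSp U).obj} (m : o' ⟶ (⟨T, u⟩ : (ofSp U).obj)) (h : R.arrows m.hom),
      o' = ⟨o'.base, (x m.hom h).1⟩ := fun {o'} m h =>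
    congrArg (Stk.EltObj.mk o'.base) (m.map_sec.symm.trans (hu m.hom h))
  let e : ∀ {o' : (ofSp U).obj} (m : o' ⟶ (⟨T, u⟩ : (ofSp U).obj)), R.arrows m.hom → E.obj (op o') :=
    fun {o'} m h => E.map (eqToHom (hobj m h)).op (x m.hom h).2
  have hcomp : ∀ {o'' o' : (ofSp U).obj} (l : o'' ⟶ o') (m : o' ⟶ (⟨T, u⟩ : (ofSp U).obj)) (h : R.arrows m.hom)
      (h' : R.arrows (l ≫ m).hom), E.map l.op (e m h) = e (l ≫ m) h' := by
    intro o'' o' l m h h'
    have hc : (sigmaPsh E).map l.hom.op (x m.hom h) = x (l ≫ m).hom h' := by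
      have := hx l.hom (𝟙 _) h h' (Category.id_comp _).symm
      simpa using this
    have h2 := sigma_eq_map l.hom (x m.hom h) hc ⟨l.hom, congrArg Sigma.fst hc⟩ rfl
    refine Eq.trans ?_ (congrArg (fun z => E.map (eqToHom (hobj (l ≫ m) h')).op z) h2.symm)
    refine map_two _ _ _ _ ?_ _
    rw [eltObj_eqToHom_hom, eltObj_eqToHom_hom]
    exact (Category.comp_id _).trans (Category.id_comp _).symm
  obtain ⟨e₀, he₀, he₀u⟩ := hE ⟨T, u⟩ R hR e hcomp
  refine ⟨⟨u, e₀⟩, fun V f hf => ?_, ?_⟩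
  · refine sigma_ext E (hu f hf) ?_
    exact (he₀ (⟨f, rfl⟩ : (⟨V, U.obj.map f.op u⟩ : (ofSp U).obj) ⟶ ⟨T, u⟩) hf).symm
  · rintro ⟨v, e'⟩ hv
    obtain rfl : v = u := huu v fun V f hf => congrArg Sigma.fst (hv f hf)
    obtain rfl : e' = e₀ := he₀u e' fun {o'} m h => by
      have h2 := sigma_eq_map m.hom ⟨v, e'⟩ (hv m.hom h) ⟨m.hom, congrArg Sigma.fst (hv m.hom h)⟩ rfl
      refine Eq.trans ?_ (congrArg (fun z => E.map (eqToHom (hobj m h)).op z) h2.symm)
      rw [map_map]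
      refine map_congr E _ _ ?_ _
      rw [Stk.EltObj.comp_hom, eltObj_eqToHom_hom]
      exact (Category.id_comp _).symm
    rfl

/-- The sheaf over `U`. -/
def sigmaSp (hE : Glues E) : Over U :=
  Over.mk (show (⟨sigmaPsh E, isSheaf_sigmaPsh hE⟩ : AlgSp.Sp S) ⟶ U from
    ⟨{ app := fun _ => TypeCat.ofHom Sigma.fst }⟩)

end GrothLib.AlgSt.Neut
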