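import Groth.Agent.Lib.AlgSt.Gerbe.Neut.Group
import Groth.Agent.Lib.SpQuot.FibGrpd

/-!
# The torsor of morphisms from the values of a section to an object
-/

set_option backward.isDefEq.respectTransparency false
set_option backward.isDefEq.respectTransparency.types false

universe u

open CategoryTheory CategoryTheory.Limits AlgebraicGeometry Opposite MonoidalCategory CartesianMonoidalCategory MonObj

namespace GrothLib.AlgSt.Neut

open _root_.AlgSt GrothLib.FibCat GrothLib.Stk GrothLib.SpQuot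

variable {S : Scheme.{u}} {U : AlgSp.Sp S} {𝒳 : _root_.AlgSt.Cat S} (x : ofSp U ⥤ᵇ 𝒳)

/-- A compatible choice of points under the objects, restricting to the identity along `x`. -/
structure Retr where
  sec : ∀ a : 𝒳.obj, U.obj.obj (op (𝒳.p.obj a))
  map_sec : ∀ {a b : 𝒳.obj} (φ : a ⟶ b), U.obj.map (𝒳.p.map φ).op (sec b) = sec a
  sec_x : ∀ o : (ofSp U).obj, sec (x.obj o) = U.obj.map (eqToHom (x.w_obj o)).op o.sec

variable {x} (hst : _root_.Stk.IsStack (AlgSp.J S) 𝒳) (r : Retr x)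

theorem Retr.eq_of_hom {o : (ofSp U).obj} {a : 𝒳.obj} (κ : x.obj o ⟶ a) :
    U.obj.map (eqToHom (x.w_obj o).symm ≫ 𝒳.p.map κ).op (r.sec a) = o.sec := by
  rw [op_comp, Functor.map_comp_apply, r.map_sec, r.sec_x]
  exact (map_map_sec _ _ (𝟙 _) ((eqToHom_trans _ _).trans (eqToHom_refl _ _)) _).trans
    (Functor.map_id_apply U.obj _ _)

/-- The sheaf of morphisms from values of `x`. -/
abbrev homP (a : 𝒳.obj) : Over U := sigmaSp (glues_homE x hst a)

variable {hst} {a b : 𝒳.obj}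

/-- The components of a point of the sheaf of morphisms. -/
def hEl {Z : Over U} (p : Z ⟶ homP (x := x) hst a) (W : Over S) (z : Z.left.obj.obj (op W)) :
    x.obj (⟨W, Z.hom.hom.app (op W) z⟩ : (ofSp U).obj) ⟶ a := el (E := homE x a) p W z

theorem hEl_natural {Z : Over U} (p : Z ⟶ homP (x := x) hst a) {W W' : Over S} (g : W' ⟶ W) (z : Z.left.obj.obj (op W))
    (k : (⟨W', Z.hom.hom.app (op W') (Z.left.obj.map g.op z)⟩ : (ofSp U).obj) ⟶ ⟨W, Z.hom.hom.app (op W) z⟩)
    (hk : k.hom = g) : hEl p W' (Z.left.obj.map g.op z) = x.map k ≫ hEl p W z :=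
  el_natural (E := homE x a) p g z k hk

theorem hEl_ext {Z : Over U} {p q : Z ⟶ homP (x := x) hst a} (h : ∀ W z, hEl p W z = hEl q W z) : p = q :=
  el_ext (E := homE x a) h

theorem hEl_comp {Z Z' : Over U} (g : Z' ⟶ Z) (p : Z ⟶ homP (x := x) hst a) (W : Over S) (z : Z'.left.obj.obj (op W)) :
    hEl (g ≫ p) W z = x.map (tr (comp_fst_eq g W z).symm) ≫ hEl p W (g.left.hom.app (op W) z) :=
  el_comp (E := homE x a) g p W z

/-- The point with given morphisms. -/
def hMk {Z : Over U}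
    (t : ∀ (W : Over S) (z : Z.left.obj.obj (op W)), x.obj (⟨W, Z.hom.hom.app (op W) z⟩ : (ofSp U).obj) ⟶ a)
    (ht : ∀ {W W' : Over S} (g : W' ⟶ W) (z : Z.left.obj.obj (op W))
      (k : (⟨W', Z.hom.hom.app (op W') (Z.left.obj.map g.op z)⟩ : (ofSp U).obj) ⟶ ⟨W, Z.hom.hom.app (op W) z⟩)
      (_ : k.hom = g), t W' (Z.left.obj.map g.op z) = x.map k ≫ t W z) :
    Z ⟶ homP (x := x) hst a := mkPt (E := homE x a) t ht

theorem hEl_hMk {Z : Over U}
    (t : ∀ (W : Over S) (z : Z.left.obj.obj (op W)), x.obj (⟨W, Z.hom.hom.app (op W) z⟩ : (ofSp U).obj) ⟶ a) (ht)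
    (W : Over S) (z : Z.left.obj.obj (op W)) : hEl (hMk (hst := hst) t ht) W z = t W z :=
  el_mkPt (E := homE x a) t ht W z

theorem comm_val {y' y : 𝒳.obj} (f : y' ⟶ y) (α : Gerb.AutO y) :
    Band.val (Band.pull hst.1 f α) ≫ f = f ≫ Band.val α := Band.pull_spec hst.1 f α

/-- The product of a point of the group and a point of the morphisms. -/
noncomputable def gmPt {Z : Over U} (g : Z ⟶ autG x hst) (p : Z ⟶ homP (x := x) hst a) : Z ⟶ homP (x := x) hst a :=
  hMk (fun W z => Band.val (gEl g W z)⁻¹ ≫ hEl p W z) (fun {W W'} s z k hk => by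
    rw [hEl_natural p s z k hk, gEl_natural g s z k hk, ← map_inv, ← Category.assoc, comm_val (hst := hst), Category.assoc])

theorem hEl_gmPt {Z : Over U} (g : Z ⟶ autG x hst) (p : Z ⟶ homP (x := x) hst a) (W : Over S) (z : Z.left.obj.obj (op W)) :
    hEl (gmPt g p) W z = Band.val (gEl g W z)⁻¹ ≫ hEl p W z := hEl_hMk _ _ W z

theorem comp_gmPt {Z Z' : Over U} (e : Z' ⟶ Z) (g : Z ⟶ autG x hst) (p : Z ⟶ homP (x := x) hst a) :
    e ≫ gmPt g p = gmPt (e ≫ g) (e ≫ p) := hEl_ext fun W z => by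
  rw [hEl_comp, hEl_gmPt, hEl_gmPt, hEl_comp, gEl_comp, ← map_inv, ← Category.assoc, ← comm_val (hst := hst), Category.assoc]

theorem one_gmPt {Z : Over U} (p : Z ⟶ homP (x := x) hst a) : gmPt 1 p = p := hEl_ext fun W z => by
  rw [hEl_gmPt, gEl_one, inv_one, Band.val_one, Category.id_comp]

theorem gmPt_gmPt {Z : Over U} (g h : Z ⟶ autG x hst) (p : Z ⟶ homP (x := x) hst a) :
    gmPt g (gmPt h p) = gmPt (g * h) p := hEl_ext fun W z => by
  rw [hEl_gmPt, hEl_gmPt, hEl_gmPt, gEl_mul, mul_inv_rev, Band.val_mul, Category.assoc]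

variable (hst) in
/-- The action of the automorphisms on the morphisms. -/
noncomputable def actP (a : 𝒳.obj) : _root_.AlgSp.GAction (autG x hst) (homP (x := x) hst a) where
  act := gmPt (fst _ _) (snd _ _)
  one_act := by
    rw [comp_gmPt, whiskerRight_fst, whiskerRight_snd, show (η[autG x hst] : 𝟙_ (Over U) ⟶ autG x hst) = 1 from by
      simp [Hom.one_def], MonObj.comp_one, one_gmPt]
    exact (leftUnitor_hom _).symm
  mul_act := by
    simp only [comp_gmPt, whiskerRight_fst, whiskerRight_snd, whiskerLeft_fst, whiskerLeft_snd, gmPt_gmPt,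
      associator_hom_snd_snd]
    rw [MonObj.comp_mul, associator_hom_fst, associator_hom_snd_fst, MonObj.mul_eq_mul, MonObj.comp_mul]

theorem gm_actP {Z : Over U} (g : Z ⟶ autG x hst) (p : Z ⟶ homP (x := x) hst a) :
    gm (actP hst a) g p = gmPt g p := by
  rw [gm, actP, comp_gmPt, lift_fst, lift_snd]

variable (hst)

/-- The point of `U` under an object, as a morphism. -/
noncomputable def baseHom (a : 𝒳.obj) : (AlgSp.yon S).obj (𝒳.p.obj a) ⟶ U :=
  ((AlgSp.J S).uliftYonedaEquiv (F := U)).symm (r.sec a)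

theorem baseHom_app (a : 𝒳.obj) {W : Over S} (f : W ⟶ 𝒳.p.obj a) :
    (baseHom r a).hom.app (op W) ⟨f⟩ = U.obj.map f.op (r.sec a) := rfl

/-- The projection of the morphisms to the base of their target. -/
noncomputable def piP (a : 𝒳.obj) : homP (x := x) hst a ⟶ Over.mk (baseHom r a) :=
  Over.homMk (show (homP (x := x) hst a).left ⟶ (AlgSp.yon S).obj (𝒳.p.obj a) from
    ⟨{ app := fun W => TypeCat.ofHom fun q =>
        ⟨eqToHom (x.w_obj (⟨W.unop, q.1⟩ : (ofSp U).obj)).symm ≫ 𝒳.p.map (q.2 : x.obj ⟨W.unop, q.1⟩ ⟶ a)⟩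
       naturality := fun W W' g => ConcreteCategory.hom_ext _ _ fun q => by
        refine ULift.ext _ _ ?_
        change eqToHom _ ≫ 𝒳.p.map (x.map (⟨g.unop, rfl⟩ : (⟨W'.unop, U.obj.map g q.1⟩ : (ofSp U).obj) ⟶ ⟨W.unop, q.1⟩) ≫ (q.2 : x.obj ⟨W.unop, q.1⟩ ⟶ a)) = g.unop ≫ _ ≫ _
        rw [𝒳.p.map_comp, p_map_x]
        simp }⟩) (by
    apply Sheaf.hom_ext
    refine NatTrans.ext (funext fun W => ConcreteCategory.hom_ext _ _ fun q => ?_)
    exact r.eq_of_hom (o := ⟨W.unop, q.1⟩) q.2)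

variable {hst}

theorem piP_app {Z : Over U} (p : Z ⟶ homP (x := x) hst a) (W : Over S) (z : Z.left.obj.obj (op W)) :
    ((p ≫ piP hst r a).left.hom.app (op W) z).down =
      eqToHom (x.w_obj (⟨W, Z.hom.hom.app (op W) z⟩ : (ofSp U).obj)).symm ≫ 𝒳.p.map (hEl p W z) := by
  change eqToHom (x.w_obj (⟨W, (p.left.hom.app (op W) z).1⟩ : (ofSp U).obj)).symm ≫
    𝒳.p.map ((p.left.hom.app (op W) z).2 : x.obj ⟨W, (p.left.hom.app (op W) z).1⟩ ⟶ a) = _
  rw [show hEl p W z = x.map (tr (fst_eq p W z).symm) ≫ ((p.left.hom.app (op W) z).2 : x.obj ⟨W, (p.left.hom.app (op W) z).1⟩ ⟶ a) from rfl,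
    𝒳.p.map_comp, p_map_x]
  simp

theorem piP_eq_iff {Z : Over U} (p q : Z ⟶ homP (x := x) hst a) :
    p ≫ piP hst r a = q ≫ piP hst r a ↔ ∀ W z, 𝒳.p.map (hEl p W z) = 𝒳.p.map (hEl q W z) := by
  constructor
  · intro h W z
    have h1 := piP_app r p W z
    rw [h, piP_app r q W z] at h1
    exact (cancel_epi _).1 h1.symm
  · intro h
    refine Over.OverMorphism.ext ?_
    apply Sheaf.hom_ext
    refine NatTrans.ext (funext fun W => ?_)
    apply ConcreteCategory.hom_ext
    intro z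
    apply ULift.ext
    exact (piP_app r p W.unop z).trans ((congrArg _ (h W.unop z)).trans (piP_app r q W.unop z).symm)

theorem gmPt_piP {Z : Over U} (g : Z ⟶ autG x hst) (p : Z ⟶ homP (x := x) hst a) :
    gmPt g p ≫ piP hst r a = p ≫ piP hst r a :=
  (piP_eq_iff r _ _).2 fun W z => by rw [hEl_gmPt, 𝒳.p.map_comp, Band.map_val, Category.id_comp]

theorem existsUnique_aut (hF : _root_.FibCat.IsFibGrpd 𝒳.p) {y : 𝒳.obj} (κ κ' : y ⟶ a) (h : 𝒳.p.map κ' = 𝒳.p.map κ) :
    ∃! α : Gerb.AutO y, Band.val α⁻¹ ≫ κ = κ' := by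
  obtain ⟨m, ⟨hm1, hm2⟩, hu⟩ := IsFibGrpd.existsUnique_fac hF κ κ' (𝟙 _) (by rw [h, Category.id_comp])
  have hml : 𝒳.p.IsHomLift (𝟙 (𝒳.p.obj y)) m := hm1 ▸ IsHomLift.map 𝒳.p m
  have := IsFibGrpd.isIso_of_isHomLift_id hF (R := 𝒳.p.obj y) m
  refine ⟨(GerbeAut.autOfIso (asIso m) hml)⁻¹, ?_, fun β hβ => ?_⟩
  · change Band.val (GerbeAut.autOfIso (asIso m) hml)⁻¹⁻¹ ≫ κ = κ'
    rw [show (GerbeAut.autOfIso (asIso m) hml)⁻¹⁻¹ = GerbeAut.autOfIso (asIso m) hml from inv_inv _]
    exact hm2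
  · have e : β⁻¹ = GerbeAut.autOfIso (asIso m) hml := Band.autO_ext (hu (Band.val β⁻¹) ⟨Band.map_val _, hβ⟩)
    rw [← e, inv_inv]

theorem isPullback_actP : IsPullback (actP hst a).act (snd (autG x hst) (homP (x := x) hst a)) (piP hst r a) (piP hst r a) := by
  have hw : (actP hst a).act ≫ piP hst r a = snd (autG x hst) (homP (x := x) hst a) ≫ piP hst r a := gmPt_piP r _ _
  refine isPullback_over_of_points hw fun V β y z e => ?_
  have hyz := (piP_eq_iff r y z).1 e
  choose α hα hu using fun W w => existsUnique_aut hst.1 (hEl z W w) (hEl y W w) (hyz W w)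
  let g : Over.mk β ⟶ autG x hst := gMk α (fun {W W'} s w k hk => (hu W' _ _ (by
    change Band.val (Band.pull hst.1 (x.map k) (α W w))⁻¹ ≫ hEl z W' _ = hEl y W' _
    rw [← map_inv, hEl_natural z s w k hk, hEl_natural y s w k hk, ← hα W w, ← Category.assoc, comm_val (hst := hst),
      Category.assoc])).symm)
  have hg : gmPt g z = y := hEl_ext fun W w => by rw [hEl_gmPt, gEl_gMk, hα W w]
  refine ⟨lift g z, ⟨?_, lift_snd _ _⟩, fun q hq => ?_⟩
  · rw [← gm, gm_actP, hg]
  · have h1 : q = lift (q ≫ fst _ _) z := by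
      rw [← hq.2, ← comp_lift, lift_fst_snd, Category.comp_id]
    rw [h1]
    congr 1
    refine gEl_ext fun W w => ?_
    rw [gEl_gMk]
    refine hu W w _ ?_
    have h2 : gmPt (q ≫ fst _ _) z = y := by
      rw [← gm_actP, gm, ← h1]; exact hq.1
    rw [← h2, hEl_gmPt]

/-- Every object is locally a value of `x`. -/
def IsLocVal (x : ofSp U ⥤ᵇ 𝒳) : Prop :=
  ∀ a : 𝒳.obj, ∃ R ∈ AlgSp.J S (𝒳.p.obj a), ∀ ⦃V : Over S⦄ (f : V ⟶ 𝒳.p.obj a), R f →
    ∃ (o : (ofSp U).obj) (m : x.obj o ⟶ a), 𝒳.p.IsHomLift f m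

/-- The point of the sheaf of morphisms given by a morphism from a value. -/
noncomputable def valPt {o : (ofSp U).obj} (κ : x.obj o ⟶ a) : (AlgSp.yon S).obj o.base ⟶ (homP (x := x) hst a).left :=
  ((AlgSp.J S).uliftYonedaEquiv (F := (homP (x := x) hst a).left)).symm ⟨o.sec, κ⟩

theorem valPt_piP {o : (ofSp U).obj} (κ : x.obj o ⟶ a) :
    valPt (hst := hst) κ ≫ (piP hst r a).left = (AlgSp.yon S).map (eqToHom (x.w_obj o).symm ≫ 𝒳.p.map κ) := by
  apply (AlgSp.J S).uliftYonedaEquiv.injective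
  rw [GrothendieckTopology.uliftYonedaEquiv_comp, valPt, Equiv.apply_symm_apply]
  apply ULift.ext
  exact (Category.id_comp _).symm

variable (hst) in
/-- The torsor of morphisms from values of `x` to an object. -/
noncomputable def torsor (hx : IsLocVal x) (a : 𝒳.obj) :
    SpQuotObj Scheme.fppfPrecoverage (autG x hst) (trivGAction (autG x hst)) where
  base := 𝒳.p.obj a
  b := baseHom r a
  P := homP (x := x) hst a
  act := actP hst a
  π := piP hst r a
  cart := isPullback_actP r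
  loc := by
    rw [hasSecLoc_fppf_iff]
    obtain ⟨R, hR, h⟩ := hx a
    refine GrothendieckTopology.superset_covering _ ?_ hR
    intro V f hf
    obtain ⟨o, κ, hκ⟩ := h f hf
    have hV : o.base = V := (x.w_obj o).symm.trans (IsHomLift.domain_eq 𝒳.p f κ)
    subst hV
    refine ⟨valPt κ, (valPt_piP r κ).trans (congrArg _ ?_)⟩
    have hfac := IsHomLift.fac' 𝒳.p f κ
    rw [hfac]
    simp
  φ := toUnit _
  eqv := toUnit_unique _ _

variable {c : 𝒳.obj}

variable (hst) in
/-- Composition with a morphism. -/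
noncomputable def postHom (φ : a ⟶ b) : homP (x := x) hst a ⟶ homP (x := x) hst b :=
  hMk (fun W z => hEl (𝟙 (homP (x := x) hst a)) W z ≫ φ) (fun {W W'} g z k hk => by
    rw [hEl_natural (𝟙 (homP (x := x) hst a)) g z k hk, Category.assoc])

theorem hEl_postHom {Z : Over U} (p : Z ⟶ homP (x := x) hst a) (φ : a ⟶ b) (W : Over S) (z : Z.left.obj.obj (op W)) :
    hEl (p ≫ postHom hst φ) W z = hEl p W z ≫ φ := by
  conv_rhs => rw [← Category.comp_id p, hEl_comp]
  rw [hEl_comp, postHom, hEl_hMk, Category.assoc]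

theorem postHom_piP_comm (φ : a ⟶ b) :
    (postHom (x := x) hst φ).left ≫ (piP hst r b).left = (piP hst r a).left ≫ (AlgSp.yon S).map (𝒳.p.map φ) := by
  apply Sheaf.hom_ext
  refine NatTrans.ext (funext fun W => ?_)
  apply ConcreteCategory.hom_ext
  intro z
  apply ULift.ext
  have h1 := piP_app r (postHom (x := x) hst φ) W.unop z
  have h2 := piP_app r (𝟙 (homP (x := x) hst a)) W.unop z
  rw [show hEl (postHom (x := x) hst φ) W.unop z = hEl (𝟙 (homP (x := x) hst a)) W.unop z ≫ φ from by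
    rw [← hEl_postHom, Category.id_comp], 𝒳.p.map_comp, ← Category.assoc, ← h2] at h1
  exact h1

theorem baseHom_comm (φ : a ⟶ b) : (AlgSp.yon S).map (𝒳.p.map φ) ≫ baseHom r b = baseHom r a := by
  apply (AlgSp.J S).uliftYonedaEquiv.injective
  rw [GrothLib.SpQuot.sec_comp, baseHom, baseHom, Equiv.apply_symm_apply, Equiv.apply_symm_apply]
  exact r.map_sec φ

variable (hst) in
/-- Objects to torsors, as a functor. -/
noncomputable def toBG (hx : IsLocVal x) :
    𝒳 ⥤ᵇ SpBG Scheme.fppfPrecoverage (autG x hst) where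
  toFunctor :=
    { obj := torsor hst r hx
      map := fun {a b} φ => SpQuot.mkHom (A := torsor hst r hx a) (A' := torsor hst r hx b) (𝒳.p.map φ) (baseHom_comm r φ)
        (postHom (x := x) hst φ) (postHom_piP_comm r φ)
        (eqv_of_gm _ fun V β g p => hEl_ext fun W z => by
          rw [show (torsor hst r hx a).act = actP hst a from rfl, show (torsor hst r hx b).act = actP hst b from rfl,
            gm_actP, gm_actP, hEl_postHom, hEl_gmPt, hEl_gmPt, hEl_postHom, Category.assoc])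
        (toUnit_unique _ _)
      map_id := fun a => SpQuotObj.hom_ext (𝒳.p.map_id a) (hEl_ext fun W z => by
        change hEl (postHom (x := x) hst (𝟙 a)) W z = hEl (𝟙 (homP (x := x) hst a)) W z
        rw [← Category.id_comp (postHom (x := x) hst (𝟙 a)), hEl_postHom, Category.comp_id])
      map_comp := fun {a b c} φ ψ => SpQuotObj.hom_ext (𝒳.p.map_comp φ ψ) (hEl_ext fun W z => by
        change hEl (postHom (x := x) hst (φ ≫ ψ)) W z = hEl (postHom (x := x) hst φ ≫ postHom (x := x) hst ψ) W z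
        rw [hEl_postHom, ← Category.id_comp (postHom (x := x) hst φ), hEl_postHom,
          ← Category.id_comp (postHom (x := x) hst (φ ≫ ψ)), hEl_postHom, Category.assoc]) }
  w := rfl

theorem baseSec_torsor (hx : IsLocVal x) (a : 𝒳.obj) :
    (AlgSp.J S).uliftYonedaEquiv (torsor hst r hx a).b = r.sec a := Equiv.apply_symm_apply _ _

end GrothLib.AlgSt.Neut
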